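import Groth.Prelude.Def_RootCh
import Mathlib.Data.Sign.Basic
import Mathlib.LinearAlgebra.RootSystem.BaseExists
import Mathlib.LinearAlgebra.RootSystem.Reduced
import Mathlib.LinearAlgebra.RootSystem.Finite.CanonicalBilinear
import Mathlib.LinearAlgebra.RootSystem.Finite.Lemmas

/-!
# Chambers, bases and fundamental weights of a finite root system over an ordered field
-/

noncomputable section

open Module
open scoped Classical

set_option linter.unusedSectionVars false

namespace Groth.Agent.RootCham

variable {ι : Type*} {R : Type*} {M : Type*} {N : Type*}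
  [Field R] [LinearOrder R] [IsStrictOrderedRing R]
  [AddCommGroup M] [Module R M] [AddCommGroup N] [Module R N]
  [Finite ι] (P : RootPairing ι R M N)

/-- The invariant form on the weight space. -/
def B : LinearMap.BilinForm R M :=
  letI := Fintype.ofFinite ι
  P.RootForm

/-- The invariant map to the coweight space. -/
def pol : M →ₗ[R] N :=
  letI := Fintype.ofFinite ι
  P.Polarization

lemma B_comm (x y : M) : B P x y = B P y x := by
  let := Fintype.ofFinite ι
  simp only [B, RootPairing.rootForm_apply_apply]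
  exact Finset.sum_congr rfl fun i _ => mul_comm _ _

lemma toLinearMap_pol (x y : M) : P.toLinearMap y (pol P x) = B P x y := by
  let := Fintype.ofFinite ι
  exact P.toLinearMap_apply_apply_Polarization x y

lemma B_root_mul (i : ι) (x : M) :
    B P (P.root i) (P.root i) * P.coroot' i x = 2 * B P (P.root i) x := by
  let := Fintype.ofFinite ι
  have h := congrArg (P.toLinearMap x) (P.rootForm_self_smul_coroot i)
  rw [map_smul, map_nsmul, smul_eq_mul, nsmul_eq_mul,
    P.toLinearMap_apply_apply_Polarization] at h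
  simpa [B] using h

lemma B_nonneg (x : M) : 0 ≤ B P x x := by
  let := Fintype.ofFinite ι
  simp only [B, RootPairing.rootForm_apply_apply]
  exact Finset.sum_nonneg fun i _ => mul_self_nonneg _

variable [P.IsRootSystem]

lemma eq_zero_of_coroot' {x : M} (h : ∀ i, P.coroot' i x = 0) : x = 0 := by
  suffices hx : P.toPerfPair x = 0 by exact P.toPerfPair.map_eq_zero_iff.mp hx
  refine LinearMap.ext_on_range (RootPairing.IsRootSystem.span_coroot_eq_top (P := P)) fun i => ?_
  simpa using h i

lemma B_self_eq_zero {x : M} (h : B P x x = 0) : x = 0 := by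
  let := Fintype.ofFinite ι
  apply eq_zero_of_coroot' P
  simp only [B, RootPairing.rootForm_apply_apply] at h
  intro i
  have := (Finset.sum_eq_zero_iff_of_nonneg fun i _ => mul_self_nonneg (P.coroot' i x)).mp h i
    (Finset.mem_univ i)
  simpa using this

lemma B_self_pos {x : M} (h : x ≠ 0) : 0 < B P x x :=
  lt_of_le_of_ne (B_nonneg P x) fun e => h (B_self_eq_zero P e.symm)

lemma len_pos (i : ι) : 0 < B P (P.root i) (P.root i) := B_self_pos P (P.ne_zero i)

lemma coroot'_eq (i : ι) (x : M) :
    P.coroot' i x = (2 / B P (P.root i) (P.root i)) * B P (P.root i) x := by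
  have := len_pos P i
  rw [div_mul_eq_mul_div, eq_div_iff this.ne', mul_comm, B_root_mul]

lemma B_root_eq (i : ι) (x : M) :
    B P (P.root i) x = (B P (P.root i) (P.root i) / 2) * P.coroot' i x := by
  rw [div_mul_eq_mul_div, B_root_mul]; ring

lemma coroot'_pos_iff (i : ι) (x : M) : 0 < P.coroot' i x ↔ 0 < B P (P.root i) x := by
  rw [coroot'_eq P i x]
  exact mul_pos_iff_of_pos_left (div_pos two_pos (len_pos P i))

lemma coroot'_nonneg_iff (i : ι) (x : M) : 0 ≤ P.coroot' i x ↔ 0 ≤ B P (P.root i) x := by
  rw [coroot'_eq P i x]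
  exact mul_nonneg_iff_of_pos_left (div_pos two_pos (len_pos P i))

lemma coroot'_eq_zero_iff (i : ι) (x : M) : P.coroot' i x = 0 ↔ B P (P.root i) x = 0 := by
  have := len_pos P i
  rw [coroot'_eq P i x]
  simp [this.ne']

omit [LinearOrder R] [IsStrictOrderedRing R] [Finite ι] [P.IsRootSystem] in
lemma root_neg (i : ι) : P.root (P.reflectionPerm i i) = -P.root i := by simp

omit [LinearOrder R] [IsStrictOrderedRing R] [Finite ι] [P.IsRootSystem] in
lemma coroot'_neg (i : ι) (x : M) : P.coroot' (P.reflectionPerm i i) x = -P.coroot' i x := by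
  have h : P.coroot (P.reflectionPerm i i) = -P.coroot i := by simp
  simp [RootPairing.coroot', h]

omit [LinearOrder R] [IsStrictOrderedRing R] [Finite ι] [P.IsRootSystem] in
lemma root'_neg (i : ι) (y : N) : P.root' (P.reflectionPerm i i) y = -P.root' i y := by
  simp [RootPairing.root']

omit [LinearOrder R] [IsStrictOrderedRing R] [Finite ι] [P.IsRootSystem] in
lemma perm_neg (j i : ι) :
    P.reflectionPerm j (P.reflectionPerm i i) =
      P.reflectionPerm (P.reflectionPerm j i) (P.reflectionPerm j i) := by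
  apply P.root.injective
  rw [root_neg, P.root_reflectionPerm, root_neg, map_neg, P.root_reflectionPerm]

lemma root'_pol (i : ι) (x : M) : P.root' i (pol P x) = B P x (P.root i) := toLinearMap_pol P x _

lemma pol_injective : Function.Injective (pol P) := by
  rw [injective_iff_map_eq_zero]
  intro x hx
  apply B_self_eq_zero P
  rw [← toLinearMap_pol, hx, map_zero]

include P in
lemma finite_M : Module.Finite R M :=
  ⟨⟨(Set.finite_range P.root).toFinset, by simp [RootPairing.IsRootSystem.span_root_eq_top]⟩⟩

include P in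
lemma finite_N : Module.Finite R N :=
  ⟨⟨(Set.finite_range P.coroot).toFinset, by simp [RootPairing.IsRootSystem.span_coroot_eq_top]⟩⟩

lemma pol_surjective : Function.Surjective (pol P) := by
  have := finite_M P
  have := finite_N P
  have e : finrank R M = finrank R N := by
    rw [LinearEquiv.finrank_eq P.toPerfPair, Subspace.dual_finrank_eq]
  exact (LinearMap.injective_iff_surjective_of_finrank_eq_finrank e).mp (pol_injective P)

lemma root'_pol_pos (i : ι) (x : M) : 0 < P.root' i (pol P x) ↔ 0 < P.coroot' i x := by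
  rw [root'_pol, B_comm, coroot'_pos_iff]

lemma root'_pol_zero (i : ι) (x : M) : P.root' i (pol P x) = 0 ↔ P.coroot' i x = 0 := by
  rw [root'_pol, B_comm, coroot'_eq_zero_iff]

lemma cosgnVec_pol (x : M) : RootCh.cosgnVec P (pol P x) = RootCh.sgnVec P x := by
  funext i
  simp only [RootCh.cosgnVec, RootCh.sgnVec, root'_pol, B_comm P x, coroot'_eq P i x, sign_mul,
    sign_pos (div_pos two_pos (len_pos P i)), one_mul]

lemma sgnVec_smul_pos {c : R} (hc : 0 < c) (x : M) :
    RootCh.sgnVec P (c • x) = RootCh.sgnVec P x := by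
  funext i
  simp [RootCh.sgnVec, sign_mul, sign_pos hc]

lemma cosgnVec_smul_pos {c : R} (hc : 0 < c) (y : N) :
    RootCh.cosgnVec P (c • y) = RootCh.cosgnVec P y := by
  funext i
  simp [RootCh.cosgnVec, sign_mul, sign_pos hc]

variable {P} [P.IsCrystallographic] [P.IsReduced] (b : P.Base)

lemma isPos_iff_not_neg (i : ι) : b.IsPos (P.reflectionPerm i i) ↔ ¬ b.IsPos i :=
  RootPairing.Base.IsPos.neg_iff_not b i

/-- A vector with non-negative values on the simple coroots has non-negative values on the positive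
ones; its zeros are controlled by the simple ones. -/
lemma B_nonneg_of_simple {x : M} (hx : x ∈ RootCh.closedChamber b) {i : ι} (hi : b.IsPos i) :
    0 ≤ B P (P.root i) x ∧ ∀ y : M, (∀ k ∈ b.support, P.coroot' k x = 0 → P.coroot' k y = 0) →
      B P (P.root i) x = 0 → B P (P.root i) y = 0 := by
  refine hi.induction_on_add (p := fun i => 0 ≤ B P (P.root i) x ∧
    ∀ y : M, (∀ k ∈ b.support, P.coroot' k x = 0 → P.coroot' k y = 0) →
      B P (P.root i) x = 0 → B P (P.root i) y = 0) (fun k hk => ?_) (fun i j k e hp hj => ?_)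
  · exact ⟨(coroot'_nonneg_iff P k x).mp (hx k hk), fun y h h0 =>
      (coroot'_eq_zero_iff P k y).mp (h k hk ((coroot'_eq_zero_iff P k x).mpr h0))⟩
  · obtain ⟨h1, h2⟩ := hp
    have hjx := (coroot'_nonneg_iff P j x).mp (hx j hj)
    have E : ∀ z, B P (P.root k) z = B P (P.root i) z + B P (P.root j) z := fun z => by
      rw [e, map_add, LinearMap.add_apply]
    refine ⟨by rw [E]; positivity, fun y h h0 => ?_⟩
    rw [E] at h0
    obtain ⟨a, c⟩ := (add_eq_zero_iff_of_nonneg h1 hjx).mp h0
    rw [E, h2 y h a, (coroot'_eq_zero_iff P j y).mp (h j hj ((coroot'_eq_zero_iff P j x).mpr c)),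
      add_zero]

lemma coroot'_nonneg {x : M} (hx : x ∈ RootCh.closedChamber b) {i : ι} (hi : b.IsPos i) :
    0 ≤ P.coroot' i x :=
  (coroot'_nonneg_iff P i x).mpr (B_nonneg_of_simple b hx hi).1

lemma coroot'_nonpos {x : M} (hx : x ∈ RootCh.closedChamber b) {i : ι} (hi : ¬ b.IsPos i) :
    P.coroot' i x ≤ 0 := by
  have := coroot'_nonneg b hx ((isPos_iff_not_neg b i).mpr hi)
  rw [coroot'_neg] at this
  linarith

lemma mem_closedChamber_iff (x : M) :
    x ∈ RootCh.closedChamber b ↔ ∀ i, b.IsPos i → 0 ≤ P.coroot' i x :=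
  ⟨fun hx _ hi => coroot'_nonneg b hx hi, fun h i hi => h i (RootPairing.Base.isPos_of_mem_support hi)⟩

/-- If the zeros of a dominant `x` on the simple coroots are zeros of `y`, all zeros are. -/
lemma zero_mono {x y : M} (hx : x ∈ RootCh.closedChamber b)
    (h : ∀ k ∈ b.support, P.coroot' k x = 0 → P.coroot' k y = 0) {i : ι}
    (h0 : P.coroot' i x = 0) : P.coroot' i y = 0 := by
  by_cases hi : b.IsPos i
  · exact (coroot'_eq_zero_iff P i y).mpr
      ((B_nonneg_of_simple b hx hi).2 y h ((coroot'_eq_zero_iff P i x).mp h0))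
  · have hi' := (isPos_iff_not_neg b i).mpr hi
    have h0' : P.coroot' (P.reflectionPerm i i) x = 0 := by rw [coroot'_neg, h0, neg_zero]
    have := (coroot'_eq_zero_iff P _ y).mpr
      ((B_nonneg_of_simple b hx hi').2 y h ((coroot'_eq_zero_iff P _ x).mp h0'))
    rwa [coroot'_neg, neg_eq_zero] at this

lemma eq_zero_of_simple {x : M} (h : ∀ k ∈ b.support, P.coroot' k x = 0) : x = 0 := by
  refine eq_zero_of_coroot' P fun i => zero_mono b (x := (0 : M)) (y := x) ?_ (fun k hk _ => h k hk) ?_
  · intro k _; simp
  · simp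

lemma coroot'_fundWeight (k : b.support) (j : ι) (hj : j ∈ b.support) :
    P.coroot' j (RootCh.fundWeight b k) = if j = (k : ι) then 1 else 0 := by
  split
  · subst j; exact RootCh.coroot'_fundWeight_self b k
  · exact RootCh.coroot'_fundWeight_of_ne b k ⟨j, hj⟩ (fun e => by simp_all [Subtype.ext_iff])

lemma root'_fundCoweight (k : b.support) (j : ι) (hj : j ∈ b.support) :
    P.root' j (RootCh.fundCoweight b k) = if j = (k : ι) then 1 else 0 := by
  split
  · subst j; exact RootCh.root'_fundCoweight_self b k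
  · exact RootCh.root'_fundCoweight_of_ne b k ⟨j, hj⟩ (fun e => by simp_all [Subtype.ext_iff])

lemma fundWeight_mem_closedChamber (k : b.support) :
    RootCh.fundWeight b k ∈ RootCh.closedChamber b := by
  intro j hj
  rw [coroot'_fundWeight b k j hj]
  split <;> norm_num

lemma fundWeight_ne_zero (k : b.support) : RootCh.fundWeight b k ≠ 0 := by
  intro h
  simpa [h] using RootCh.coroot'_fundWeight_self b k

lemma fundWeight_injective : Function.Injective (RootCh.fundWeight b) := by
  intro k l h
  by_contra hne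
  have := RootCh.coroot'_fundWeight_of_ne b k l (Ne.symm hne)
  rw [h, RootCh.coroot'_fundWeight_self b l] at this
  exact one_ne_zero this

lemma weight_repr (x : M) :
    x = ∑ k : b.support, P.coroot' k x • RootCh.fundWeight b k := by
  classical
  rw [← sub_eq_zero]
  refine eq_zero_of_simple b fun j hj => ?_
  simp only [map_sub, map_sum, map_smul, smul_eq_mul]
  rw [Finset.sum_eq_single ⟨j, hj⟩]
  · rw [coroot'_fundWeight b ⟨j, hj⟩ j hj]; simp
  · intro k _ hk
    rw [coroot'_fundWeight b k j hj, if_neg (fun e => hk (Subtype.ext e.symm))]; simp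
  · simp

lemma linearIndependent_fundWeight : LinearIndependent R (RootCh.fundWeight b) := by
  classical
  rw [Fintype.linearIndependent_iff]
  intro g hg j
  have := congrArg (P.coroot' (j : ι)) hg
  simp only [map_sum, map_smul, smul_eq_mul, map_zero] at this
  rw [Finset.sum_eq_single j] at this
  · rw [coroot'_fundWeight b j j j.2] at this; simpa using this
  · intro k _ hk
    rw [coroot'_fundWeight b k j j.2, if_neg (fun e => hk (Subtype.ext e.symm))]; simp
  · simp

lemma toLinearMap_eq_sum (x : M) (y : N) :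
    P.toLinearMap x y =
      ∑ k : b.support, P.coroot' k x * P.toLinearMap (RootCh.fundWeight b k) y := by
  conv_lhs => rw [weight_repr b x]
  simp only [map_sum, map_smul, LinearMap.coe_sum, Finset.sum_apply, LinearMap.smul_apply, smul_eq_mul]

lemma coweight_eq_zero_of_simple {y : N} (h : ∀ k ∈ b.support, P.root' k y = 0) : y = 0 := by
  obtain ⟨x, rfl⟩ := pol_surjective P y
  rw [eq_zero_of_simple b fun k hk => (root'_pol_zero P k x).mp (h k hk), map_zero]

lemma fundCoweight_eq (k : b.support) :
    RootCh.fundCoweight b k = (2 / B P (P.root k) (P.root k)) • pol P (RootCh.fundWeight b k) := by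
  rw [← sub_eq_zero]
  refine coweight_eq_zero_of_simple b fun j hj => ?_
  rw [map_sub, map_smul, root'_pol, B_comm P _ (P.root j), B_root_eq P j, coroot'_fundWeight b k j hj,
    root'_fundCoweight b k j hj]
  split
  · subst j
    have := (len_pos P (k : ι)).ne'
    rw [smul_eq_mul]; field_simp; ring
  · simp

lemma coweight_repr (y : N) :
    y = ∑ k : b.support, P.root' k y • RootCh.fundCoweight b k := by
  classical
  rw [← sub_eq_zero]
  refine coweight_eq_zero_of_simple b fun j hj => ?_
  simp only [map_sub, map_sum, map_smul, smul_eq_mul]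
  rw [Finset.sum_eq_single ⟨j, hj⟩]
  · rw [root'_fundCoweight b ⟨j, hj⟩ j hj]; simp
  · intro k _ hk
    rw [root'_fundCoweight b k j hj, if_neg (fun e => hk (Subtype.ext e.symm))]; simp
  · simp

/-- The sum of the fundamental weights. -/
def rho : M := ∑ k : b.support, RootCh.fundWeight b k

lemma coroot'_rho {j : ι} (hj : j ∈ b.support) : P.coroot' j (rho b) = 1 := by
  classical
  rw [rho, map_sum, Finset.sum_eq_single ⟨j, hj⟩]
  · rw [coroot'_fundWeight b ⟨j, hj⟩ j hj]; simp
  · intro k _ hk
    rw [coroot'_fundWeight b k j hj, if_neg (fun e => hk (Subtype.ext e.symm))]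
  · simp

lemma rho_mem : rho b ∈ RootCh.openChamber b := fun j hj => by rw [coroot'_rho b hj]; exact one_pos

lemma openChamber_subset : RootCh.openChamber b ⊆ RootCh.closedChamber b :=
  fun _ hx j hj => (hx j hj).le

lemma regular_of_open {x : M} (hx : x ∈ RootCh.openChamber b) (i : ι) : P.coroot' i x ≠ 0 := by
  intro h0
  have key : ∀ k : b.support, P.coroot' i (RootCh.fundWeight b k) = 0 := fun k =>
    zero_mono b (openChamber_subset b hx) (fun j hj e => absurd e (hx j hj).ne') h0
  have : P.coroot' i (P.root i) = 0 := by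
    rw [weight_repr b (P.root i), map_sum]
    exact Finset.sum_eq_zero fun k _ => by rw [map_smul, key k, smul_zero]
  simp at this

lemma isPos_iff_of_open {x : M} (hx : x ∈ RootCh.openChamber b) (i : ι) :
    b.IsPos i ↔ 0 < P.coroot' i x := by
  refine ⟨fun hi => lt_of_le_of_ne (coroot'_nonneg b (openChamber_subset b hx) hi)
    (regular_of_open b hx i).symm, fun h => ?_⟩
  by_contra hi
  exact (coroot'_nonpos b (openChamber_subset b hx) hi).not_gt h

lemma mem_support_iff (i : ι) : i ∈ b.support ↔ b.IsPos i ∧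
    ∀ j k, b.IsPos j → b.IsPos k → P.root i ≠ P.root j + P.root k := by
  refine ⟨fun hi => ⟨RootPairing.Base.isPos_of_mem_support hi, fun j k hj hk e => ?_⟩, ?_⟩
  · have := b.height_add e
    rw [b.height_one_of_mem_support hi] at this
    rw [RootPairing.Base.isPos_iff] at hj hk
    lia
  · rintro ⟨hi, h⟩
    by_contra hns
    obtain ⟨j, hj, hj'⟩ := hi.exists_mem_support_pos_pairingIn
    rw [P.zero_lt_pairingIn_iff'] at hj'
    have hne : i ≠ j := fun e => hns (e ▸ hj)
    obtain ⟨k, hk⟩ := P.root_sub_root_mem_of_pairingIn_pos hj' hne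
    exact h k j (hi.sub hj hk) (RootPairing.Base.isPos_of_mem_support hj)
      (by rw [hk]; abel)

omit b in
lemma base_ext {b b' : P.Base} (h : ∀ i, b.IsPos i ↔ b'.IsPos i) : b = b' := by
  have hs : b.support = b'.support := by
    ext i
    simp only [mem_support_iff, h]
  cases b; cases b'; simp_all

omit b in
lemma base_eq_of_pos_subset {b b' : P.Base} (h : ∀ i, b.IsPos i → b'.IsPos i) : b = b' := by
  refine base_ext fun i => ⟨h i, fun hi => ?_⟩
  by_contra hn
  exact (isPos_iff_not_neg b' i).mp (h _ ((isPos_iff_not_neg b i).mpr hn)) hi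

omit b in
instance finite_base : Finite P.Base := by
  refine Finite.of_injective (fun b : P.Base => (b.support : Set ι)) fun b b' h => ?_
  have hs : b.support = b'.support := Finset.coe_injective h
  cases b; cases b'; simp_all

omit b in
/-- Every regular vector lies in the open chamber of some base. -/
lemma exists_base {x : M} (hx : ∀ i, P.coroot' i x ≠ 0) :
    ∃ b : P.Base, x ∈ RootCh.openChamber b := by
  let f : Dual R M := B P x
  have hf : ∀ i, f (P.root i) ≠ 0 := fun i e => hx i ((coroot'_eq_zero_iff P i x).mpr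
    (by rw [B_comm]; exact e))
  let := P.indexNeg
  refine ⟨RootPairing.Base.mk' P
    (IsAddIndecomposable.baseOf P.root (f : M →+ R))
    (P.linearIndepOn_root_baseOf' (S := R) f hf)
    (fun i => IsAddIndecomposable.mem_or_neg_mem_closure_baseOf P.root (f : M →+ R) i (hf i)
      (by simp)), ?_⟩
  intro k hk
  rw [coroot'_pos_iff, B_comm]
  have hk' : k ∈ IsAddIndecomposable.baseOf P.root (f : M →+ R) := by
    simpa [RootPairing.Base.mk'] using hk
  exact hk'.1

omit b in
lemma exists_regular : ∃ x : M, ∀ i, P.coroot' i x ≠ 0 := by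
  obtain ⟨b⟩ := P.nonempty_base
  exact ⟨rho b, regular_of_open b (rho_mem b)⟩

omit b in
lemma nonempty_base' : Nonempty P.Base := P.nonempty_base

lemma exists_int_coroot' {x : M} (h : ∀ k ∈ b.support, ∃ z : ℤ, P.coroot' k x = z) (i : ι) :
    ∃ z : ℤ, P.coroot' i x = z := by
  have key : ∀ n ∈ AddSubmonoid.closure (P.coroot '' b.support),
      ∃ z : ℤ, P.toLinearMap x n = z := by
    intro n hn
    induction hn using AddSubmonoid.closure_induction with
    | mem n hn =>
      obtain ⟨k, hk, rfl⟩ := hn
      exact h k hk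
    | zero => exact ⟨0, by simp⟩
    | add n m _ _ hn hm =>
      obtain ⟨a, ha⟩ := hn; obtain ⟨c, hc⟩ := hm
      exact ⟨a + c, by simp [ha, hc]⟩
  rcases b.coroot_mem_or_neg_mem i with hi | hi
  · exact key _ hi
  · obtain ⟨z, hz⟩ := key _ hi
    refine ⟨-z, ?_⟩
    rw [map_neg] at hz
    simp [← hz]

lemma exists_int_root' {y : N} (h : ∀ k ∈ b.support, ∃ z : ℤ, P.root' k y = z) (i : ι) :
    ∃ z : ℤ, P.root' i y = z := by
  have key : ∀ n ∈ AddSubmonoid.closure (P.root '' b.support),
      ∃ z : ℤ, P.toLinearMap n y = z := by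
    intro n hn
    induction hn using AddSubmonoid.closure_induction with
    | mem n hn =>
      obtain ⟨k, hk, rfl⟩ := hn
      exact h k hk
    | zero => exact ⟨0, by simp⟩
    | add n m _ _ hn hm =>
      obtain ⟨a, ha⟩ := hn; obtain ⟨c, hc⟩ := hm
      exact ⟨a + c, by simp [ha, hc]⟩
  rcases b.root_mem_or_neg_mem i with hi | hi
  · exact key _ hi
  · obtain ⟨z, hz⟩ := key _ hi
    refine ⟨-z, ?_⟩
    simp at hz
    simp [← hz]

lemma fundWeight_int (k : b.support) (i : ι) :
    ∃ z : ℤ, P.coroot' i (RootCh.fundWeight b k) = z :=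
  exists_int_coroot' b (fun j hj => ⟨if j = (k : ι) then 1 else 0, by
    rw [coroot'_fundWeight b k j hj]; split <;> simp⟩) i

lemma fundCoweight_int (k : b.support) (i : ι) :
    ∃ z : ℤ, P.root' i (RootCh.fundCoweight b k) = z :=
  exists_int_root' b (fun j hj => ⟨if j = (k : ι) then 1 else 0, by
    rw [root'_fundCoweight b k j hj]; split <;> simp⟩) i

/-- The fundamental weights lying in the closed chamber of `b` are those of `b`. -/
theorem baseCorners_eq : RootCh.baseCorners b = Set.range (RootCh.fundWeight b) := by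
  refine Set.Subset.antisymm ?_ ?_
  · rintro w ⟨⟨b', l, hw⟩, hwb⟩
    by_contra hne
    have hw0 : w ≠ 0 := hw ▸ fundWeight_ne_zero b' l
    obtain ⟨k, hk, hk0⟩ : ∃ k ∈ b.support, P.coroot' k w ≠ 0 := by
      by_contra hc
      push Not at hc
      exact hw0 (eq_zero_of_simple b hc)
    let u := RootCh.fundWeight b ⟨k, hk⟩
    have hz : ∀ j ∈ b.support, P.coroot' j w = 0 → P.coroot' j u = 0 := by
      intro j hj e
      rw [coroot'_fundWeight b ⟨k, hk⟩ j hj, if_neg]
      intro (e' : j = k)
      exact hk0 (e' ▸ e)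
    have hu : u = P.coroot' l u • w := by
      have e := weight_repr b' u
      rw [Finset.sum_eq_single l] at e
      · rwa [hw] at e
      · intro m _ hm
        have h0 : P.coroot' m w = 0 := by
          rw [← hw, RootCh.coroot'_fundWeight_of_ne b' l m hm]
        rw [zero_mono b hwb hz h0, zero_smul]
      · simp
    have h1 : 1 = P.coroot' l u * P.coroot' k w := by
      have := congrArg (P.coroot' k) hu
      rw [map_smul, smul_eq_mul] at this
      rw [← this, coroot'_fundWeight b ⟨k, hk⟩ k hk, if_pos rfl]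
    obtain ⟨a, ha⟩ := fundWeight_int b ⟨k, hk⟩ l
    obtain ⟨c, hc⟩ : ∃ c : ℤ, P.coroot' k w = c := by rw [← hw]; exact fundWeight_int b' l k
    have hc0 : 0 ≤ P.coroot' k w := hwb k hk
    rw [ha, hc] at h1
    rw [hc] at hc0 hk0
    have h1' : (a * c : ℤ) = 1 := by exact_mod_cast h1.symm
    have hc1 : c = 1 := by
      rcases Int.eq_one_or_neg_one_of_mul_eq_one' h1' with ⟨_, h⟩ | ⟨_, h⟩
      · exact h
      · exfalso; rw [h] at hc0; norm_num at hc0
    rw [hc1, mul_one] at h1'
    rw [ha, h1'] at hu
    refine hne ⟨⟨k, hk⟩, ?_⟩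
    simpa using hu
  · rintro w ⟨k, rfl⟩
    exact ⟨⟨b, k, rfl⟩, fundWeight_mem_closedChamber b k⟩

omit b in
/-- Corresponding fundamental coweights are unique. -/
theorem corr_unique {m : M} {x x' : N} (h : RootCh.Corr P m x) (h' : RootCh.Corr P m x') :
    x = x' := by
  obtain ⟨b, k, hm, rfl⟩ := h
  obtain ⟨b', l, hm', rfl⟩ := h'
  let c : R := B P (P.root k) (P.root k) / B P (P.root l) (P.root l)
  have hk := len_pos P (k : ι)
  have hl := len_pos P (l : ι)
  have hc : 0 < c := div_pos hk hl
  have e : RootCh.fundCoweight b' l = c • RootCh.fundCoweight b k := by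
    rw [fundCoweight_eq, fundCoweight_eq, hm, hm', smul_smul]
    congr 1
    simp only [c]
    field_simp
  obtain ⟨p, hp⟩ := fundCoweight_int b k l
  obtain ⟨q, hq⟩ := fundCoweight_int b' l k
  have e1 : (1 : R) = c * p := by
    have := congrArg (P.root' l) e
    rw [map_smul, smul_eq_mul, hp, RootCh.root'_fundCoweight_self] at this
    exact this
  have e2 : (q : R) = c := by
    have := congrArg (P.root' k) e
    rw [map_smul, smul_eq_mul, hq, RootCh.root'_fundCoweight_self, mul_one] at this
    exact this
  have : q * p = 1 := by rw [← e2] at e1; exact_mod_cast e1.symm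
  have q1 : q = 1 := by
    rcases Int.eq_one_or_neg_one_of_mul_eq_one' this with ⟨h, _⟩ | ⟨h, _⟩
    · exact h
    · exfalso; rw [h] at e2; rw [← e2] at hc; norm_num at hc
  rw [e, ← e2, q1]; simp

/-- The base obtained by reflecting `b` in a simple root. -/
lemma exists_refl {j : ι} (hj : j ∈ b.support) : ∃ b' : P.Base, ∀ i,
    (b'.IsPos i ↔ b.IsPos (P.reflectionPerm j i)) := by
  have e : ∀ i, P.coroot' i (P.reflection j (rho b)) = P.coroot' (P.reflectionPerm j i) (rho b) :=
    fun i => by rw [P.coroot'_reflection]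
  obtain ⟨b', hb'⟩ := exists_base (P := P) (x := P.reflection j (rho b))
    (fun i => by rw [e]; exact regular_of_open b (rho_mem b) _)
  exact ⟨b', fun i => by rw [isPos_iff_of_open b' hb', e, isPos_iff_of_open b (rho_mem b)]⟩

lemma isPos_perm_iff {j : ι} (hj : j ∈ b.support) (i : ι) :
    b.IsPos (P.reflectionPerm j i) ↔ (i = P.reflectionPerm j j ∨ (b.IsPos i ∧ i ≠ j)) := by
  have hjp := RootPairing.Base.isPos_of_mem_support hj
  constructor
  · intro h
    by_cases hi : i = P.reflectionPerm j j
    · exact Or.inl hi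
    right
    have hne : P.reflectionPerm j i ≠ j := fun e =>
      hi ((P.reflectionPerm_self j i).symm.trans (congrArg _ e))
    have h2 := h.reflectionPerm hj hne
    rw [P.reflectionPerm_self] at h2
    exact ⟨h2, fun e => (isPos_iff_not_neg b j).mp (e ▸ h) hjp⟩
  · rintro (rfl | ⟨h1, h2⟩)
    · rwa [P.reflectionPerm_self]
    · exact h1.reflectionPerm hj h2

end Groth.Agent.RootCham
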