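import Groth.Agent.RootCham.Core

/-!
# Facets, their corners and parabolic sets
-/

noncomputable section

open Module
open scoped Classical

set_option linter.unusedSectionVars false

namespace Groth.Agent.RootCham

variable {ι : Type*} {R : Type*} {M : Type*} {N : Type*}
  [Field R] [LinearOrder R] [IsStrictOrderedRing R]
  [AddCommGroup M] [Module R M] [AddCommGroup N] [Module R N]
  [Finite ι] {P : RootPairing ι R M N} [P.IsRootSystem] [P.IsCrystallographic] [P.IsReduced]
  (b : P.Base)

lemma sgn_neg (F : RootCh.Facet P) (i : ι) : F.sgn (P.reflectionPerm i i) = -F.sgn i := by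
  obtain ⟨ξ, hξ⟩ := F.exists_sgnVec_eq
  rw [← hξ]
  simp only [RootCh.sgnVec]
  rw [coroot'_neg, Left.sign_neg]

/-- Adding a small positive multiple of `η` resolves the zeros of `ξ` by the signs of `η`. -/
lemma exists_perturb (P : RootPairing ι R M N) (ξ η : M) : ∃ ε : R, 0 < ε ∧
    ∀ i, (P.coroot' i ξ = 0 → RootCh.sgnVec P (ξ + ε • η) i = RootCh.sgnVec P η i) ∧
      (P.coroot' i ξ ≠ 0 → RootCh.sgnVec P (ξ + ε • η) i = RootCh.sgnVec P ξ i) := by
  have := Fintype.ofFinite ι
  let a := fun i => P.coroot' i ξ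
  let c := fun i => P.coroot' i η
  obtain ⟨ε, hε, hb⟩ : ∃ ε : R, 0 < ε ∧ ∀ i, a i ≠ 0 → ε * |c i| < |a i| := by
    rcases (Finset.univ.filter fun i => a i ≠ 0).eq_empty_or_nonempty with h | h
    · refine ⟨1, one_pos, fun i hi => ?_⟩
      have : i ∈ Finset.univ.filter fun i => a i ≠ 0 := Finset.mem_filter.mpr ⟨Finset.mem_univ _, hi⟩
      simp [h] at this
    · obtain ⟨j, hj, hmin⟩ := Finset.exists_min_image _ (fun i => |a i| / (|c i| + 1)) h
      refine ⟨|a j| / (|c j| + 1), div_pos (abs_pos.mpr (Finset.mem_filter.mp hj).2)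
        (by positivity), fun i hi => ?_⟩
      have h1 := hmin i (Finset.mem_filter.mpr ⟨Finset.mem_univ _, hi⟩)
      have h2 : |a i| / (|c i| + 1) * |c i| < |a i| := by
        rw [div_mul_eq_mul_div, div_lt_iff₀ (by positivity)]
        nlinarith [abs_pos.mpr hi]
      exact lt_of_le_of_lt (mul_le_mul_of_nonneg_right h1 (abs_nonneg _)) h2
  refine ⟨ε, hε, fun i => ?_⟩
  simp only [RootCh.sgnVec, map_add, map_smul, smul_eq_mul]
  rcases lt_trichotomy (a i) 0 with h | h | h
  · have := hb i h.ne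
    rw [abs_of_neg h] at this
    have := mul_le_mul_of_nonneg_left (le_abs_self (c i)) hε.le
    simp only [a, c] at *
    exact ⟨fun e => absurd e h.ne, fun _ => by rw [sign_neg h, sign_neg (by linarith)]⟩
  · simp only [a] at h
    exact ⟨fun _ => by rw [h, zero_add, sign_mul, sign_pos hε, one_mul], fun e => absurd h e⟩
  · have := hb i h.ne'
    rw [abs_of_pos h] at this
    have := mul_le_mul_of_nonneg_left (neg_le_abs (c i)) hε.le
    simp only [a, c] at *
    exact ⟨fun e => absurd e h.ne', fun _ => by rw [sign_pos h, sign_pos (by linarith)]⟩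

lemma mem_cham_iff {F : RootCh.Facet P} {ξ : M} (hξ : ξ ∈ F.carrier) :
    b ∈ F.cham ↔ ξ ∈ RootCh.closedChamber b := by
  refine ⟨fun h => h hξ, fun h x hx j hj => ?_⟩
  have e : RootCh.sgnVec P x j = RootCh.sgnVec P ξ j := congrFun (hx.trans hξ.symm) j
  simp only [RootCh.sgnVec] at e
  rw [← sign_nonneg_iff, e, sign_nonneg_iff]
  exact h j hj

lemma mem_cham_iff_sgn (F : RootCh.Facet P) :
    b ∈ F.cham ↔ ∀ i, b.IsPos i → 0 ≤ F.sgn i := by
  obtain ⟨ξ, hξ⟩ := F.exists_sgnVec_eq
  rw [mem_cham_iff b (F := F) hξ, mem_closedChamber_iff, ← hξ]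
  simp only [RootCh.sgnVec, sign_nonneg_iff]

omit b in
lemma exists_cham_of_le (F : RootCh.Facet P) : ∃ b : P.Base, b ∈ F.cham := by
  obtain ⟨ξ, hξ⟩ := F.exists_sgnVec_eq
  obtain ⟨η, hη⟩ := exists_regular (P := P)
  obtain ⟨ε, _, hε⟩ := exists_perturb P ξ η
  have hreg : ∀ i, P.coroot' i (ξ + ε • η) ≠ 0 := by
    intro i h0
    by_cases h : P.coroot' i ξ = 0
    · have := (hε i).1 h
      simp only [RootCh.sgnVec] at this
      rw [h0, sign_zero] at this
      exact hη i (sign_eq_zero_iff.mp this.symm)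
    · have := (hε i).2 h
      simp only [RootCh.sgnVec] at this
      rw [h0, sign_zero] at this
      exact h (sign_eq_zero_iff.mp this.symm)
  obtain ⟨b, hb⟩ := exists_base hreg
  refine ⟨b, (mem_cham_iff b (F := F) hξ).mpr fun j hj => ?_⟩
  by_contra hlt
  push Not at hlt
  have := (hε j).2 hlt.ne
  simp only [RootCh.sgnVec] at this
  rw [sign_neg hlt, sign_eq_neg_one_iff] at this
  exact (hb j hj).not_gt this

/-- The simple indices at which the facet does not vanish. -/
def supp (F : RootCh.Facet P) : Set b.support := {k | F.sgn k ≠ 0}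

lemma mem_closure_iff {F : RootCh.Facet P} (hb : b ∈ F.cham) (x : M) :
    x ∈ F.closure ↔ x ∈ RootCh.closedChamber b ∧
      ∀ k : b.support, F.sgn k = 0 → P.coroot' k x = 0 := by
  obtain ⟨ξ, hξ⟩ := F.exists_sgnVec_eq
  have hs := (mem_cham_iff_sgn b F).mp hb
  constructor
  · intro hx
    refine ⟨fun j hj => ?_, fun k hk => ?_⟩
    · have h1 : (0 : SignType) ≤ RootCh.sgnVec P x j := by
        rcases hx j with h | h <;> rw [h]
        exact hs j (RootPairing.Base.isPos_of_mem_support hj)
      exact sign_nonneg_iff.mp h1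
    · rcases hx k with h | h
      · exact sign_eq_zero_iff.mp h
      · exact sign_eq_zero_iff.mp (h.trans hk)
  · rintro ⟨hx, h0⟩ i
    by_contra hne
    push Not at hne
    obtain ⟨hne0, hneF⟩ := hne
    have hξc := (mem_cham_iff b (F := F) hξ).mp hb
    by_cases hz : P.coroot' i ξ = 0
    · refine hne0 (sign_eq_zero_iff.mpr ?_)
      refine zero_mono b hξc (fun k hk e => h0 ⟨k, hk⟩ ?_) hz
      rw [← hξ]; exact sign_eq_zero_iff.mpr e
    · apply hneF
      rw [← hξ]
      have hxz : P.coroot' i x ≠ 0 := fun e => hne0 (sign_eq_zero_iff.mpr e)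
      simp only [RootCh.sgnVec]
      by_cases hi : b.IsPos i
      · rw [sign_pos (lt_of_le_of_ne (coroot'_nonneg b hx hi) (Ne.symm hxz)),
          sign_pos (lt_of_le_of_ne (coroot'_nonneg b hξc hi) (Ne.symm hz))]
      · rw [sign_neg (lt_of_le_of_ne (coroot'_nonpos b hx hi) hxz),
          sign_neg (lt_of_le_of_ne (coroot'_nonpos b hξc hi) hz)]

lemma closure_subset {F : RootCh.Facet P} (hb : b ∈ F.cham) {x : M} (hx : x ∈ F.closure) :
    x ∈ RootCh.closedChamber b := ((mem_closure_iff b hb x).mp hx).1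

omit b in
lemma carrier_subset_closure (F : RootCh.Facet P) : F.carrier ⊆ F.closure :=
  fun _ hx i => Or.inr (congrFun hx i)

lemma mem_carrier_iff {F : RootCh.Facet P} (hb : b ∈ F.cham) (x : M) :
    x ∈ F.carrier ↔ ∀ k : b.support, RootCh.sgnVec P x k = F.sgn k := by
  obtain ⟨ξ, hξ⟩ := F.exists_sgnVec_eq
  refine ⟨fun hx k => congrFun hx _, fun h => ?_⟩
  have hξc := (mem_cham_iff b (F := F) hξ).mp hb
  have hxc : x ∈ RootCh.closedChamber b := fun j hj => sign_nonneg_iff.mp (by
    change (0 : SignType) ≤ RootCh.sgnVec P x j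
    rw [h ⟨j, hj⟩]
    exact (mem_cham_iff_sgn b F).mp hb j (RootPairing.Base.isPos_of_mem_support hj))
  have hz : ∀ k ∈ b.support, (P.coroot' k x = 0 ↔ P.coroot' k ξ = 0) := fun k hk => by
    have e : RootCh.sgnVec P x k = RootCh.sgnVec P ξ k := by rw [hξ]; exact h ⟨k, hk⟩
    simp only [RootCh.sgnVec] at e
    rw [← sign_eq_zero_iff, e, sign_eq_zero_iff]
  show RootCh.sgnVec P x = F.sgn
  rw [← hξ]
  funext i
  have hzi : P.coroot' i x = 0 ↔ P.coroot' i ξ = 0 :=
    ⟨zero_mono b hxc fun k hk => (hz k hk).mp, zero_mono b hξc fun k hk => (hz k hk).mpr⟩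
  simp only [RootCh.sgnVec]
  by_cases hz0 : P.coroot' i x = 0
  · rw [hz0, hzi.mp hz0]
  have hz0' : P.coroot' i ξ ≠ 0 := fun e => hz0 (hzi.mpr e)
  by_cases hi : b.IsPos i
  · rw [sign_pos (lt_of_le_of_ne (coroot'_nonneg b hxc hi) (Ne.symm hz0)),
      sign_pos (lt_of_le_of_ne (coroot'_nonneg b hξc hi) (Ne.symm hz0'))]
  · rw [sign_neg (lt_of_le_of_ne (coroot'_nonpos b hxc hi) hz0),
      sign_neg (lt_of_le_of_ne (coroot'_nonpos b hξc hi) hz0')]

lemma sgn_simple {F : RootCh.Facet P} (hb : b ∈ F.cham) (k : b.support) :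
    F.sgn k = if k ∈ supp b F then 1 else 0 := by
  have h := (mem_cham_iff_sgn b F).mp hb k (RootPairing.Base.isPos_of_mem_support k.2)
  by_cases hk : k ∈ supp b F
  · rw [if_pos hk]
    replace hk : F.sgn k ≠ 0 := hk
    revert h hk; generalize F.sgn k = s; revert s; decide
  · rw [if_neg hk]; simpa [supp] using hk

/-- The corners of a facet are the fundamental weights of an adjacent chamber at which it is
non-zero. -/
theorem corners_eq {F : RootCh.Facet P} (hb : b ∈ F.cham) :
    F.corners = RootCh.fundWeight b '' supp b F := by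
  refine Set.Subset.antisymm ?_ ?_
  · rintro w ⟨hw, hwc⟩
    obtain ⟨hwb, h0⟩ := (mem_closure_iff b hb w).mp hwc
    obtain ⟨k, rfl⟩ : w ∈ Set.range (RootCh.fundWeight b) := baseCorners_eq b ▸ ⟨hw, hwb⟩
    refine ⟨k, fun e => ?_, rfl⟩
    simpa [RootCh.coroot'_fundWeight_self b k] using h0 k e
  · rintro _ ⟨k, hk, rfl⟩
    refine ⟨⟨b, k, rfl⟩, (mem_closure_iff b hb _).mpr ⟨fundWeight_mem_closedChamber b k, fun l hl => ?_⟩⟩
    rw [coroot'_fundWeight b k l l.2, if_neg]
    intro e
    exact hk (by rw [← e]; exact hl)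

lemma mem_span_corners_iff {F : RootCh.Facet P} (hb : b ∈ F.cham) (x : M) :
    x ∈ Submodule.span R F.corners ↔ ∀ k : b.support, F.sgn k = 0 → P.coroot' k x = 0 := by
  rw [corners_eq b hb]
  constructor
  · intro hx k hk
    have : Submodule.span R (RootCh.fundWeight b '' supp b F) ≤ LinearMap.ker (P.coroot' k) := by
      rw [Submodule.span_le]
      rintro _ ⟨l, hl, rfl⟩
      rw [SetLike.mem_coe, LinearMap.mem_ker, coroot'_fundWeight b l k k.2, if_neg]
      intro e
      exact hl (by rw [← e]; exact hk)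
    exact this hx
  · intro h
    rw [weight_repr b x]
    refine Submodule.sum_mem _ fun k _ => ?_
    by_cases hk : F.sgn k = 0
    · simp [h k hk]
    · exact Submodule.smul_mem _ _ (Submodule.subset_span ⟨k, hk, rfl⟩)

/-- The sum of the fundamental weights with index in `S`. -/
def vecSupp (S : Set b.support) : M :=
  ∑ k : b.support, if k ∈ S then RootCh.fundWeight b k else 0

/-- The facet with given corners in the chamber of `b`. -/
def ofSupp (S : Set b.support) : RootCh.Facet P :=
  RootCh.Facet.ofVec P (vecSupp b S)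

lemma coroot'_ofSupp (S : Set b.support) (j : b.support) :
    P.coroot' j (vecSupp b S) = if j ∈ S then 1 else 0 := by
  rw [vecSupp, map_sum, Finset.sum_eq_single j]
  · split
    · exact RootCh.coroot'_fundWeight_self b j
    · exact map_zero _
  · intro k _ hk
    split
    · exact RootCh.coroot'_fundWeight_of_ne b k j (Ne.symm hk)
    · exact map_zero _
  · simp

lemma ofSupp_cham (S : Set b.support) : b ∈ (ofSupp b S).cham :=
  (mem_cham_iff b (F := ofSupp b S) rfl).mpr fun j hj => by
    rw [coroot'_ofSupp b S ⟨j, hj⟩]; split <;> norm_num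

lemma supp_ofSupp (S : Set b.support) : supp b (ofSupp b S) = S := by
  ext k
  have e : (ofSupp b S).sgn k = SignType.sign (if k ∈ S then (1 : R) else 0) :=
    congrArg SignType.sign (coroot'_ofSupp b S k)
  show (ofSupp b S).sgn k ≠ 0 ↔ _
  rw [e]
  split <;> simp_all

lemma corners_ofSupp (S : Set b.support) : (ofSupp b S).corners = RootCh.fundWeight b '' S := by
  rw [corners_eq b (ofSupp_cham b S), supp_ofSupp]

omit b in
lemma eq_of_corners {F G : RootCh.Facet P} (h : F.corners = G.corners) : F = G := by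
  obtain ⟨b, hb⟩ := exists_cham_of_le F
  obtain ⟨c, hc⟩ := exists_cham_of_le G
  obtain ⟨ξ, hξ⟩ := F.exists_sgnVec_eq
  obtain ⟨η, hη⟩ := G.exists_sgnVec_eq
  have key : ∀ {F G : RootCh.Facet P} {b : P.Base} {ξ η : M}, b ∈ F.cham →
      RootCh.sgnVec P ξ = F.sgn → RootCh.sgnVec P η = G.sgn → F.corners ⊆ G.corners →
      ∀ i, F.sgn i = 0 ∨ F.sgn i = G.sgn i := by
    intro F G b ξ η hb hξ hη hsub i
    obtain ⟨c, hc⟩ := exists_cham_of_le G
    have hξs : ξ ∈ Submodule.span R F.corners := (mem_span_corners_iff b hb ξ).mpr fun k hk => by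
      rw [← hξ] at hk; exact sign_eq_zero_iff.mp hk
    have hξcl : ξ ∈ G.closure := by
      refine (mem_closure_iff c hc ξ).mpr ⟨?_,
        (mem_span_corners_iff c hc ξ).mp (Submodule.span_mono hsub hξs)⟩
      intro j hj
      rw [weight_repr b ξ, map_sum]
      refine Finset.sum_nonneg fun k _ => ?_
      rw [map_smul, smul_eq_mul]
      by_cases hk : F.sgn k = 0
      · have : P.coroot' k ξ = 0 := by rw [← hξ] at hk; exact sign_eq_zero_iff.mp hk
        simp [this]
      · refine mul_nonneg ((mem_cham_iff b (F := F) hξ).mp hb k k.2) ?_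
        refine (closure_subset c hc ?_) j hj
        exact (hsub (corners_eq b hb ▸ ⟨k, hk, rfl⟩)).2
    rw [← hξ]
    exact hξcl i
  have h1 := key hb hξ hη h.le
  have h2 := key hc hη hξ h.ge
  ext i
  rcases h1 i with a | a
  · rcases h2 i with a' | a'
    · rw [a, a']
    · exact a'.symm
  · exact a

theorem carrier_eq {F : RootCh.Facet P} :
    F.carrier = {ξ : M | ∃ c : M →₀ R, (c.support : Set M) ⊆ F.corners ∧ (∀ m ∈ F.corners, 0 < c m) ∧
      c.sum (fun m r => r • m) = ξ} := by
  obtain ⟨b, hb⟩ := exists_cham_of_le F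
  rw [corners_eq b hb]
  ext ξ
  let f : b.support ↪ M := ⟨RootCh.fundWeight b, fundWeight_injective b⟩
  constructor
  · intro hξ
    let c₀ : b.support →₀ R := Finsupp.equivFunOnFinite.symm fun k => P.coroot' k ξ
    refine ⟨c₀.embDomain f, ?_, ?_, ?_⟩
    · intro m hm
      rw [Finsupp.support_embDomain, Finset.coe_map] at hm
      obtain ⟨k, hk, rfl⟩ := hm
      refine ⟨k, ?_, rfl⟩
      show F.sgn k ≠ 0
      rw [← congrFun hξ k]
      simp only [RootCh.sgnVec, ne_eq, sign_eq_zero_iff]
      simpa [c₀] using hk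
    · rintro _ ⟨k, hk, rfl⟩
      rw [show RootCh.fundWeight b k = f k from rfl, Finsupp.embDomain_apply_self]
      have : RootCh.sgnVec P ξ k = 1 := by rw [congrFun hξ k, sgn_simple b hb, if_pos hk]
      simpa [c₀, RootCh.sgnVec, sign_eq_one_iff] using this
    · rw [Finsupp.sum_embDomain, Finsupp.sum_fintype _ _ (by simp)]
      exact (weight_repr b ξ).symm
  · rintro ⟨c, hsupp, hpos, hsum⟩
    rw [mem_carrier_iff b hb]
    have hval : ∀ j : b.support, P.coroot' j ξ = c (f j) := by
      intro j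
      rw [← hsum, Finsupp.sum, map_sum]
      rw [Finset.sum_eq_single (f j)]
      · rw [map_smul, show f j = RootCh.fundWeight b j from rfl, RootCh.coroot'_fundWeight_self,
          smul_eq_mul, mul_one]
      · intro m hm hne
        obtain ⟨k, hk, rfl⟩ := hsupp hm
        rw [map_smul, RootCh.coroot'_fundWeight_of_ne b k j (fun e => hne (by rw [e]; rfl)), smul_zero]
      · intro hn
        rw [Finsupp.notMem_support_iff.mp hn]; simp
    intro k
    rw [sgn_simple b hb]
    simp only [RootCh.sgnVec, hval]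
    split
    · rename_i hk; exact sign_pos (hpos _ ⟨k, hk, rfl⟩)
    · rename_i hk
      rw [sign_eq_zero_iff, ← Finsupp.notMem_support_iff]
      intro hm
      obtain ⟨l, hl, e⟩ := hsupp hm
      exact hk (fundWeight_injective b e ▸ hl)

theorem span_carrier (F : RootCh.Facet P) :
    Submodule.span R F.carrier = Submodule.span R F.corners := by
  obtain ⟨b, hb⟩ := exists_cham_of_le F
  obtain ⟨ξ, hξ⟩ := F.exists_sgnVec_eq
  refine le_antisymm (Submodule.span_le.mpr fun x hx => (mem_span_corners_iff b hb x).mpr fun k hk => ?_) ?_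
  · exact sign_eq_zero_iff.mp ((congrFun hx k).trans hk)
  · rw [corners_eq b hb, Submodule.span_le]
    rintro _ ⟨k, hk, rfl⟩
    have h1 : ξ + RootCh.fundWeight b k ∈ F.carrier := by
      rw [mem_carrier_iff b hb]
      intro l
      rw [← hξ]
      simp only [RootCh.sgnVec, map_add]
      rw [coroot'_fundWeight b k l l.2]
      split
      · rename_i e
        have hp : 0 < P.coroot' l ξ := by
          rw [← sign_eq_one_iff]
          change RootCh.sgnVec P ξ l = 1
          rw [hξ, sgn_simple b hb, if_pos]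
          rwa [Subtype.ext e]
        rw [sign_pos hp, sign_pos (by linarith)]
      · rw [add_zero]
    have := Submodule.sub_mem _ (Submodule.subset_span (R := R) h1) (Submodule.subset_span (R := R) (s := F.carrier) hξ)
    simpa using this

omit b in
lemma dualCarrier_eq (F : RootCh.Facet P) : F.dualCarrier = pol P '' F.carrier := by
  ext y
  obtain ⟨x, rfl⟩ := pol_surjective P y
  rw [(pol_injective P).mem_set_image]
  show RootCh.cosgnVec P (pol P x) = _ ↔ RootCh.sgnVec P x = _
  rw [cosgnVec_pol]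

omit b in
lemma sgn_corr {m : M} {y : N} (h : RootCh.Corr P m y) :
    RootCh.cosgnVec P y = RootCh.sgnVec P m := by
  obtain ⟨b, k, rfl, rfl⟩ := h
  rw [fundCoweight_eq, cosgnVec_smul_pos P (div_pos two_pos (len_pos P _)), cosgnVec_pol]

omit b in
lemma corr_exists {m : M} (h : m ∈ RootCh.fundWeights P) : ∃ y, RootCh.Corr P m y := by
  obtain ⟨b, k, rfl⟩ := h
  exact ⟨_, b, k, rfl, rfl⟩

omit b in
lemma corr_iff (b : P.Base) (k : b.support) (y : N) :
    RootCh.Corr P (RootCh.fundWeight b k) y ↔ y = RootCh.fundCoweight b k :=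
  ⟨fun h => corr_unique h ⟨b, k, rfl, rfl⟩, fun h => ⟨b, k, rfl, h.symm⟩⟩

omit b in
theorem corners_eq_parab (F : RootCh.Facet P) : F.corners =
    {m : M | m ∈ RootCh.fundWeights P ∧ ∀ y : N, RootCh.Corr P m y → ∀ i ∈ F.parab, 0 ≤ P.root' i y} := by
  ext m
  refine and_congr_right fun hm => ⟨fun hc y hy i hi => ?_, fun h i => ?_⟩
  · rw [← sign_nonneg_iff]
    change 0 ≤ RootCh.cosgnVec P y i
    rw [sgn_corr hy]
    rcases hc i with e | e <;> rw [e]
    replace hi : F.sgn i ≠ -1 := hi
    revert hi; generalize F.sgn i = s; revert s; decide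
  · obtain ⟨y, hy⟩ := corr_exists hm
    rw [← sgn_corr hy]
    by_cases hi : i ∈ F.parab
    · have h1 : 0 ≤ RootCh.cosgnVec P y i := sign_nonneg_iff.mpr (h y hy i hi)
      by_cases hi' : P.reflectionPerm i i ∈ F.parab
      · left
        have h2 := h y hy _ hi'
        rw [root'_neg] at h2
        exact sign_eq_zero_iff.mpr (le_antisymm (by linarith) (h y hy i hi))
      · have h3 : F.sgn (P.reflectionPerm i i) = -1 := not_not.mp hi'
        rw [sgn_neg, neg_inj] at h3
        rw [h3]
        revert h1; generalize RootCh.cosgnVec P y i = s; revert s; decide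
    · have h3 : F.sgn i = -1 := not_not.mp hi
      have h2 := h y hy (P.reflectionPerm i i) (by
        show F.sgn _ ≠ -1
        rw [sgn_neg, h3]; decide)
      rw [root'_neg] at h2
      have h1 : RootCh.cosgnVec P y i ≤ 0 := sign_nonpos_iff.mpr (by linarith)
      rw [h3]
      revert h1; generalize RootCh.cosgnVec P y i = s; revert s; decide

omit b in
theorem isParabolic_parab (F : RootCh.Facet P) : RootCh.IsParabolicSubset P F.parab := by
  obtain ⟨ξ, hξ⟩ := F.exists_sgnVec_eq
  have e : ∀ i, i ∈ F.parab ↔ 0 ≤ B P (P.root i) ξ := fun i => by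
    show F.sgn i ≠ -1 ↔ _
    rw [← hξ, ← coroot'_nonneg_iff]
    simp [RootCh.sgnVec, sign_eq_neg_one_iff]
  refine ⟨fun i j k hi hj h => ?_, fun i => ?_⟩
  · rw [e] at hi hj ⊢
    rw [h, map_add, LinearMap.add_apply]
    exact add_nonneg hi hj
  · rw [e, e, root_neg, map_neg, LinearMap.neg_apply, neg_nonneg]
    exact le_total _ _

omit b in
lemma le_iff_parab_subset (F G : RootCh.Facet P) : F ≤ G ↔ F.parab ⊆ G.parab := by
  constructor
  · intro h i (hi : F.sgn i ≠ -1)
    show G.sgn i ≠ -1
    rcases h i with e | e <;> rw [e]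
    · decide
    · exact hi
  · intro h i
    have h1 : F.sgn i ≠ -1 → G.sgn i ≠ -1 := @h i
    have h2 : F.sgn (P.reflectionPerm i i) ≠ -1 → G.sgn (P.reflectionPerm i i) ≠ -1 := @h _
    rw [sgn_neg, sgn_neg] at h2
    revert h1 h2; generalize F.sgn i = s; generalize G.sgn i = t; revert s t; decide

omit b in
lemma parab_injective {F G : RootCh.Facet P} (h : F.parab = G.parab) : F = G :=
  le_antisymm ((le_iff_parab_subset F G).mpr h.le) ((le_iff_parab_subset G F).mpr h.ge)

omit b in
theorem exists_parab_eq {S : Set ι} (hS : RootCh.IsParabolicSubset P S) :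
    ∃ F : RootCh.Facet P, F.parab = S := by
  obtain ⟨hcl, hcov⟩ := hS
  have := nonempty_base' (P := P)
  have := Fintype.ofFinite ι
  have := Fintype.ofFinite P.Base
  obtain ⟨b, -, hmax⟩ := Finset.exists_max_image (Finset.univ : Finset P.Base)
    (fun b => (Finset.univ.filter fun i => b.IsPos i ∧ i ∈ S).card) Finset.univ_nonempty
  have hΔ : ∀ j ∈ b.support, j ∈ S := by
    intro j hj
    by_contra hjS
    obtain ⟨b', hb'⟩ := exists_refl b hj
    have hj' : P.reflectionPerm j j ∈ S := (hcov j).resolve_left hjS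
    have hlt : (Finset.univ.filter fun i => b.IsPos i ∧ i ∈ S) ⊂
        (Finset.univ.filter fun i => b'.IsPos i ∧ i ∈ S) := by
      rw [Finset.ssubset_iff_of_subset]
      · refine ⟨P.reflectionPerm j j, ?_, ?_⟩
        · simp only [Finset.mem_filter, Finset.mem_univ, true_and]
          exact ⟨(hb' _).mpr ((isPos_perm_iff b hj _).mpr (Or.inl rfl)), hj'⟩
        · simp only [Finset.mem_filter, Finset.mem_univ, true_and, not_and]
          intro h
          exact absurd (RootPairing.Base.isPos_of_mem_support hj) ((isPos_iff_not_neg b j).mp h)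
      · intro i
        simp only [Finset.mem_filter, Finset.mem_univ, true_and]
        rintro ⟨h1, h2⟩
        exact ⟨(hb' i).mpr ((isPos_perm_iff b hj i).mpr (Or.inr ⟨h1, fun e => hjS (e ▸ h2)⟩)), h2⟩
    exact (hmax b' (Finset.mem_univ _)).not_gt (Finset.card_lt_card hlt)
  have hpos : ∀ i, b.IsPos i → i ∈ S := fun i hi =>
    hi.induction_on_add (p := (· ∈ S)) hΔ (fun a j k e ha hj => hcl a j k ha (hΔ j hj) e)
  let J : Set b.support := {k | P.reflectionPerm (k : ι) (k : ι) ∉ S}
  let F := ofSupp b J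
  let ξ := vecSupp b J
  have hξc : ξ ∈ RootCh.closedChamber b :=
    (mem_cham_iff b (F := F) (ξ := ξ) rfl).mp (ofSupp_cham b J)
  have hj0 : ∀ j ∈ b.support, B P (P.root j) ξ = 0 ↔ P.reflectionPerm j j ∈ S := fun j hj => by
    rw [← coroot'_eq_zero_iff, coroot'_ofSupp b J ⟨j, hj⟩]
    by_cases h : P.reflectionPerm j j ∈ S <;> simp [J, h]
  have key : ∀ i, b.IsPos i → (0 ≤ B P (P.root i) ξ ∧
      (B P (P.root i) ξ = 0 ↔ P.reflectionPerm i i ∈ S)) := by
    intro i hi
    have : b.IsPos i ∧ 0 ≤ B P (P.root i) ξ ∧ (B P (P.root i) ξ = 0 ↔ P.reflectionPerm i i ∈ S) := by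
      refine hi.induction_on_add (p := fun i => b.IsPos i ∧ 0 ≤ B P (P.root i) ξ ∧
        (B P (P.root i) ξ = 0 ↔ P.reflectionPerm i i ∈ S)) (fun j hj => ?_) (fun a j k e hp hj => ?_)
      · exact ⟨RootPairing.Base.isPos_of_mem_support hj,
          (coroot'_nonneg_iff P j ξ).mp (hξc j hj), hj0 j hj⟩
      · obtain ⟨ha, h1, h2⟩ := hp
        have hjx := (coroot'_nonneg_iff P j ξ).mp (hξc j hj)
        refine ⟨ha.add (RootPairing.Base.isPos_of_mem_support hj) e,
          by rw [e, map_add, LinearMap.add_apply]; exact add_nonneg h1 hjx, ?_⟩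
        rw [e, map_add, LinearMap.add_apply, add_eq_zero_iff_of_nonneg h1 hjx, h2, hj0 j hj]
        constructor
        · rintro ⟨x, y⟩
          exact hcl _ _ _ x y (by rw [root_neg, root_neg, root_neg, e]; abel)
        · intro hk
          refine ⟨hcl _ j _ hk (hΔ j hj) (by rw [root_neg, root_neg, e]; abel),
            hcl _ a _ hk (hpos a ha) (by rw [root_neg, root_neg, e]; abel)⟩
    exact this.2
  refine ⟨F, ?_⟩
  ext i
  show F.sgn i ≠ -1 ↔ i ∈ S
  show SignType.sign (P.coroot' i ξ) ≠ -1 ↔ _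
  rw [ne_eq, sign_eq_neg_one_iff, not_lt, coroot'_nonneg_iff]
  by_cases hi : b.IsPos i
  · exact ⟨fun _ => hpos i hi, fun _ => (key i hi).1⟩
  · obtain ⟨h1, h2⟩ := key _ ((isPos_iff_not_neg b i).mpr hi)
    rw [root_neg, map_neg, LinearMap.neg_apply] at h1 h2
    rw [show P.reflectionPerm (P.reflectionPerm i i) (P.reflectionPerm i i) = i from
      P.root.injective (by rw [root_neg, root_neg, neg_neg])] at h2
    constructor
    · intro h
      exact h2.mp (by linarith)
    · intro h
      linarith [h2.mpr h]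

end Groth.Agent.RootCham
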