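import Mathlib.Analysis.Convex.Combination
import Mathlib.LinearAlgebra.Dual.Lemmas
import Mathlib.LinearAlgebra.BilinearMap
import Mathlib.Tactic.Linarith
import Mathlib.Tactic.Abel
import Mathlib.Tactic.FieldSimp
import Mathlib.Tactic.Ring

/-!
# Farkas' lemma, separation from a polytope, and nearest points, over an ordered field
-/

noncomputable section

open Module
open scoped Classical

set_option linter.unusedSectionVars false

namespace Groth.Agent.RootCham

variable {R : Type*} [Field R] [LinearOrder R] [IsStrictOrderedRing R]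
  {V : Type*} [AddCommGroup V] [Module R V]

/-- Farkas' lemma over an ordered field. -/
theorem farkas {κ : Type*} (s : Finset κ) :
    ∀ (a : κ → Dual R V) (c : Dual R V), (∀ x, (∀ i ∈ s, a i x ≤ 0) → c x ≤ 0) →
      ∃ y : κ → R, (∀ i, 0 ≤ y i) ∧ c = ∑ i ∈ s, y i • a i := by
  induction s using Finset.induction_on with
  | empty =>
    intro a c h
    refine ⟨0, fun _ => le_rfl, ?_⟩
    ext x
    have h1 := h x (by simp)
    have h2 := h (-x) (by simp)
    rw [map_neg] at h2
    simp only [Finset.sum_empty, LinearMap.zero_apply]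
    linarith
  | @insert n s hn ih =>
    intro a c h
    by_cases hh : ∀ x, (∀ i ∈ s, a i x ≤ 0) → c x ≤ 0
    · obtain ⟨y, hy, e⟩ := ih a c hh
      refine ⟨Function.update y n 0, fun i => ?_, ?_⟩
      · by_cases hi : i = n
        · simp [hi]
        · simp [hi, hy i]
      · rw [e, Finset.sum_insert hn, Function.update_self, zero_smul, zero_add]
        refine Finset.sum_congr rfl fun i hi => ?_
        rw [Function.update_of_ne (ne_of_mem_of_not_mem hi hn)]
    · push Not at hh
      obtain ⟨x₁, hx₁, hc₁⟩ := hh
      have hn₁ : 0 < a n x₁ := by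
        by_contra hle
        exact (h x₁ fun i hi => (Finset.mem_insert.mp hi).elim
          (fun e => e ▸ not_lt.mp hle) (hx₁ i)).not_gt hc₁
      let x₀ := (a n x₁)⁻¹ • x₁
      have h0 : a n x₀ = 1 := by simp [x₀, hn₁.ne']
      have hs0 : ∀ i ∈ s, a i x₀ ≤ 0 := fun i hi => by
        simp only [x₀, map_smul, smul_eq_mul]
        exact mul_nonpos_of_nonneg_of_nonpos (inv_nonneg.mpr hn₁.le) (hx₁ i hi)
      have hc0 : 0 ≤ c x₀ := by
        simp only [x₀, map_smul, smul_eq_mul]
        exact mul_nonneg (inv_nonneg.mpr hn₁.le) hc₁.le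
      obtain ⟨y, hy, e⟩ := ih (fun i => a i - (a i x₀) • a n) (c - (c x₀) • a n) (fun x hx => by
        have := h (x - a n x • x₀) fun i hi => ?_
        · simpa [mul_comm] using this
        · rcases Finset.mem_insert.mp hi with rfl | hi
          · simp [h0]
          · simpa [mul_comm] using hx i hi)
      let t := c x₀ - ∑ i ∈ s, y i * a i x₀
      have ht : 0 ≤ t := sub_nonneg.mpr (le_trans (Finset.sum_nonpos fun i hi =>
        mul_nonpos_of_nonneg_of_nonpos (hy i) (hs0 i hi)) hc0)
      refine ⟨Function.update y n t, fun i => ?_, ?_⟩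
      · by_cases hi : i = n
        · simp [hi, ht]
        · simp [hi, hy i]
      · rw [Finset.sum_insert hn, Function.update_self]
        have e' : ∑ i ∈ s, Function.update y n t i • a i = ∑ i ∈ s, y i • a i :=
          Finset.sum_congr rfl fun i hi => by
            rw [Function.update_of_ne (ne_of_mem_of_not_mem hi hn)]
        rw [e']
        ext x
        have := LinearMap.congr_fun e x
        simp only [LinearMap.sub_apply, LinearMap.smul_apply, smul_eq_mul, LinearMap.coe_sum,
          Finset.sum_apply, mul_sub, Finset.sum_sub_distrib, ← mul_assoc, ← Finset.sum_mul] at this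
        simp only [LinearMap.add_apply, LinearMap.smul_apply, smul_eq_mul, LinearMap.coe_sum,
          Finset.sum_apply, t, sub_mul]
        linarith

/-- A point not separated from a finite set by a linear functional lies in its convex hull. -/
theorem mem_convexHull_of_forall_exists {s : Set V} (hs : s.Finite) {x : V}
    (h : ∀ f : Dual R V, ∃ p ∈ s, f p ≤ f x) : x ∈ convexHull R s := by
  let ev : V → Dual R (Dual R V × R) := fun p =>
    (Module.Dual.eval R V p).coprod LinearMap.id
  have hev : ∀ p f t, ev p (f, t) = f p + t := fun p f t => by simp [ev]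
  obtain ⟨y, hy, e⟩ := farkas hs.toFinset ev (ev x) (fun ft hft => by
    obtain ⟨f, t⟩ := ft
    obtain ⟨p, hp, hle⟩ := h (-f)
    have := hft p (hs.mem_toFinset.mpr hp)
    rw [hev] at this ⊢
    simp at hle
    linarith)
  have h1 : ∑ i ∈ hs.toFinset, y i = 1 := by
    have := LinearMap.congr_fun e (0, 1)
    simpa [hev] using this.symm
  have h2 : x = ∑ i ∈ hs.toFinset, y i • i := by
    apply Module.eval_apply_injective R
    ext f
    have := LinearMap.congr_fun e (f, 0)
    simpa [hev] using this
  rw [h2]
  exact (convex_convexHull R s).sum_mem (fun i _ => hy i) h1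
    (fun i hi => subset_convexHull R s (hs.mem_toFinset.mp hi))

/-- A linear functional is bounded below on a convex hull by its bound on the generators. -/
lemma le_of_mem_convexHull {s : Set V} {f : Dual R V} {c : R} (h : ∀ p ∈ s, c ≤ f p) {x : V}
    (hx : x ∈ convexHull R s) : c ≤ f x :=
  convexHull_min (fun p hp => h p hp) (convex_halfSpace_ge f.isLinear c) hx

lemma eq_of_mem_convexHull {s : Set V} {f : Dual R V} {c : R} (h : ∀ p ∈ s, f p = c) {x : V}
    (hx : x ∈ convexHull R s) : f x = c :=
  convexHull_min (fun p hp => h p hp) (convex_hyperplane f.isLinear c) hx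

lemma bilin_add_smul (B : LinearMap.BilinForm R V) (hs : ∀ y z, B y z = B z y) (u w : V) (t : R) :
    B (u + t • w) (u + t • w) = B u u + 2 * t * B u w + t * t * B w w := by
  simp only [map_add, map_smul, LinearMap.add_apply, LinearMap.smul_apply, smul_eq_mul, hs w u]
  ring

lemma exists_orth (B : LinearMap.BilinForm R V) (hp : ∀ y, y ≠ 0 → 0 < B y y)
    (U : Submodule R V) [FiniteDimensional R U] (v : V) : ∃ u ∈ U, ∀ w ∈ U, B (v + u) w = 0 := by
  let L : U →ₗ[R] Dual R U := (B.domRestrict U).compl₂ U.subtype
  have hinj : Function.Injective L := by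
    rw [injective_iff_map_eq_zero]
    intro u hu
    by_contra hne
    have := LinearMap.congr_fun hu u
    simp [L] at this
    exact (hp u (fun e => hne (Subtype.ext e))).ne' this
  obtain ⟨u, hu⟩ := (LinearMap.injective_iff_surjective_of_finrank_eq_finrank
    Subspace.dual_finrank_eq.symm).mp hinj (-(B v ∘ₗ U.subtype))
  refine ⟨u, u.2, fun w hw => ?_⟩
  have := LinearMap.congr_fun hu ⟨w, hw⟩
  simp [L] at this
  simp [this]

/-- A positive definite form attains its minimum on a polytope, over any ordered field. -/
theorem exists_min (B : LinearMap.BilinForm R V) (hs : ∀ y z, B y z = B z y)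
    (hp : ∀ y, y ≠ 0 → 0 < B y y) (s : Finset V) (hne : s.Nonempty) :
    ∃ z ∈ convexHull R (s : Set V), ∀ y ∈ convexHull R (s : Set V), B z z ≤ B y y := by
  induction s using Finset.strongInduction with
  | H s ih =>
    obtain ⟨p₀, hp₀⟩ := hne
    let U : Submodule R V := Submodule.span R (((fun p => p - p₀) '' (s : Set V)))
    have : FiniteDimensional R U := FiniteDimensional.span_of_finite R (s.finite_toSet.image _)
    obtain ⟨u, hu, horth⟩ := exists_orth B hp U p₀
    have hnonneg : ∀ w, 0 ≤ B w w := fun w => by
      rcases eq_or_ne w 0 with rfl | hw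
      · simp
      · exact (hp w hw).le
    have hsU : ∀ y ∈ convexHull R (s : Set V), y - p₀ ∈ U := fun y hy => by
      refine convexHull_min (t := {y | y - p₀ ∈ U}) (fun p hp' => Submodule.subset_span ⟨p, hp', rfl⟩)
        ?_ hy
      intro a ha c hc α β _ _ hαβ
      have hm := U.add_mem (U.smul_mem α ha) (U.smul_mem β hc)
      have e : α • (a - p₀) + β • (c - p₀) = α • a + β • c - p₀ := by
        conv_rhs => rw [← one_smul R p₀, ← hαβ, add_smul]
        simp only [smul_sub]
        abel
      rw [e] at hm
      exact hm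
    by_cases hz : p₀ + u ∈ convexHull R (s : Set V)
    · refine ⟨_, hz, fun y hy => ?_⟩
      have hw : y - (p₀ + u) ∈ U := by rw [← sub_sub]; exact U.sub_mem (hsU y hy) hu
      have := bilin_add_smul B hs (p₀ + u) (y - (p₀ + u)) 1
      rw [one_smul, add_sub_cancel, horth _ hw] at this
      linarith [hnonneg (y - (p₀ + u))]
    · obtain ⟨v, hv1, hv2⟩ : ∃ v : V → R, ∑ p ∈ s, v p = 1 ∧ ∑ p ∈ s, v p • p = p₀ + u := by
        have hu' : u ∈ Submodule.span R (((fun p => p - p₀) '' (s : Set V))) := hu
        rw [← Finset.coe_image, Submodule.mem_span_finset] at hu'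
        obtain ⟨g, _, hg⟩ := hu'
        rw [Finset.sum_image (fun a _ c _ e => sub_left_injective e)] at hg
        refine ⟨fun p => g (p - p₀) + if p = p₀ then 1 - ∑ q ∈ s, g (q - p₀) else 0, ?_, ?_⟩
        · simp [Finset.sum_add_distrib, hp₀]
        · simp only [add_smul, Finset.sum_add_distrib, ite_smul, zero_smul, Finset.sum_ite_eq',
            hp₀, if_true, ← hg, smul_sub, Finset.sum_sub_distrib, ← Finset.sum_smul, sub_smul,
            one_smul]
          abel
      have hneg : ∃ p ∈ s, v p < 0 := by
        by_contra hc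
        push Not at hc
        exact hz (hv2 ▸ (convex_convexHull R (s : Set V)).sum_mem hc hv1
          (fun p hp' => subset_convexHull R _ hp'))
      have key : ∀ y ∈ convexHull R (s : Set V), ∃ p ∈ s,
          ∃ y' ∈ convexHull R ((s.erase p : Finset V) : Set V), B y' y' ≤ B y y := by
        intro y hy
        rw [Finset.mem_convexHull'] at hy
        obtain ⟨w, hw0, hw1, hwy⟩ := hy
        obtain ⟨q, hq, hmin⟩ := Finset.exists_min_image (s.filter fun p => v p < 0)
          (fun p => w p / (w p - v p)) (by
            obtain ⟨p, hp', hp''⟩ := hneg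
            exact ⟨p, Finset.mem_filter.mpr ⟨hp', hp''⟩⟩)
        rw [Finset.mem_filter] at hq
        let t := w q / (w q - v q)
        have hd : 0 < w q - v q := by linarith [hw0 q hq.1, hq.2]
        have ht0 : 0 ≤ t := div_nonneg (hw0 q hq.1) hd.le
        have ht1 : t ≤ 1 := (div_le_one hd).mpr (by linarith [hq.2])
        let c : V → R := fun p => w p + t * (v p - w p)
        have hcq : c q = 0 := by
          show w q + t * (v q - w q) = 0
          have : t * (w q - v q) = w q := div_mul_cancel₀ _ hd.ne'
          linear_combination -this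
        have hc0 : ∀ p ∈ s, 0 ≤ c p := fun p hp' => by
          show 0 ≤ w p + t * (v p - w p)
          by_cases hv : v p < 0
          · have hd' : 0 < w p - v p := by linarith [hw0 p hp']
            have := hmin p (Finset.mem_filter.mpr ⟨hp', hv⟩)
            have := (le_div_iff₀ hd').mp this
            linarith
          · nlinarith [hw0 p hp', not_lt.mp hv]
        refine ⟨q, hq.1, ∑ p ∈ s, c p • p, ?_, ?_⟩
        · rw [← Finset.add_sum_erase _ _ hq.1, hcq, zero_smul, zero_add]
          refine (convex_convexHull R _).sum_mem (fun p hp' => hc0 p (Finset.mem_of_mem_erase hp'))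
            ?_ (fun p hp' => subset_convexHull R _ hp')
          have : ∑ p ∈ s, c p = 1 := by
            simp [c, Finset.sum_add_distrib, ← Finset.mul_sum, Finset.sum_sub_distrib, hw1, hv1]
          rw [← Finset.add_sum_erase _ _ hq.1, hcq, zero_add] at this
          exact this
        · have e : ∑ p ∈ s, c p • p = (p₀ + u) + (1 - t) • (y - (p₀ + u)) := by
            simp only [c, add_smul, mul_smul, sub_smul, Finset.sum_add_distrib, ← Finset.smul_sum,
              Finset.sum_sub_distrib, hwy, hv2, one_smul, smul_sub]
            abel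
          have hy' : y - p₀ ∈ U := hsU y (by rw [Finset.mem_convexHull']; exact ⟨w, hw0, hw1, hwy⟩)
          have hw : y - (p₀ + u) ∈ U := by rw [← sub_sub]; exact U.sub_mem hy' hu
          have h1 := bilin_add_smul B hs (p₀ + u) (y - (p₀ + u)) (1 - t)
          have h2 := bilin_add_smul B hs (p₀ + u) (y - (p₀ + u)) 1
          rw [one_smul, add_sub_cancel, horth _ hw] at h2
          rw [horth _ hw] at h1
          rw [e, h1, h2]
          nlinarith [hnonneg (y - (p₀ + u)),
            mul_nonneg (mul_nonneg ht0 (by linarith : (0 : R) ≤ 2 - t)) (hnonneg (y - (p₀ + u)))]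
      let T := s.filter fun p => (s.erase p).Nonempty
      have hall : ∀ p ∈ T, ∃ z ∈ convexHull R ((s.erase p : Finset V) : Set V),
          ∀ y ∈ convexHull R ((s.erase p : Finset V) : Set V), B z z ≤ B y y := fun p hp' => by
        rw [Finset.mem_filter] at hp'
        exact ih _ (Finset.erase_ssubset hp'.1) hp'.2
      choose z hz hzmin using hall
      have hmemT : ∀ p ∈ s, ∀ y ∈ convexHull R ((s.erase p : Finset V) : Set V), p ∈ T :=
        fun p hp' y hy => Finset.mem_filter.mpr ⟨hp', by
          rw [Finset.nonempty_iff_ne_empty]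
          intro he
          simp [he] at hy⟩
      obtain ⟨p₁, hp₁, y₁, hy₁, -⟩ := key p₀ (subset_convexHull R _ hp₀)
      obtain ⟨⟨p, hp'⟩, -, hbest⟩ := Finset.exists_min_image T.attach
        (fun p => B (z p p.2) (z p p.2)) ⟨⟨p₁, hmemT p₁ hp₁ y₁ hy₁⟩, Finset.mem_attach _ _⟩
      refine ⟨z p hp', convexHull_mono (by simp) (hz p hp'), fun y hy => ?_⟩
      obtain ⟨q, hq, y', hy', hle⟩ := key y hy
      exact le_trans (hbest ⟨q, hmemT q hq y' hy'⟩ (Finset.mem_attach _ _))
        (le_trans (hzmin q _ y' hy') hle)

/-- First order condition at the minimum of a positive definite form on a convex set. -/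
theorem le_bilin_of_min (B : LinearMap.BilinForm R V) (hs : ∀ y z, B y z = B z y)
    {C : Set V} (hC : Convex R C) {z : V} (hz : z ∈ C) (hmin : ∀ y ∈ C, B z z ≤ B y y)
    {y : V} (hy : y ∈ C) : B z z ≤ B z y := by
  by_contra hlt
  push Not at hlt
  have hd : B z (y - z) < 0 := by rw [map_sub]; linarith
  have key : ∀ t : R, 0 < t → t ≤ 1 → 0 ≤ 2 * t * B z (y - z) + t * t * B (y - z) (y - z) := by
    intro t h0 h1
    have := hmin _ (hC.add_smul_sub_mem hz hy ⟨h0.le, h1⟩)
    rw [bilin_add_smul B hs] at this
    linarith
  rcases le_or_gt (B (y - z) (y - z)) 0 with hq | hq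
  · have := key 1 one_pos le_rfl
    linarith
  · let t := min 1 (-(B z (y - z)) / B (y - z) (y - z))
    have ht : 0 < t := lt_min one_pos (div_pos (by linarith) hq)
    have htq : t * B (y - z) (y - z) ≤ -(B z (y - z)) := (le_div_iff₀ hq).mp (min_le_right _ _)
    have := key t ht (min_le_left _ _)
    nlinarith

end Groth.Agent.RootCham
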