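import Groth.Prelude.Def_RootCh2
import Groth.Agent.RootCham.Facet
import Groth.Agent.RootCham.Polytope

/-!
# Complementary convex solids: degrees, dual solids and the special facet
-/

noncomputable section

open Module
open scoped Classical

set_option linter.unusedSectionVars false

namespace Groth.Agent.RootCham

variable {ι : Type*} {R : Type*} {M : Type*} {N : Type*}
  [Field R] [LinearOrder R] [IsStrictOrderedRing R]
  [AddCommGroup M] [Module R M] [AddCommGroup N] [Module R N]
  [Finite ι] {P : RootPairing ι R M N} [P.IsRootSystem] [P.IsCrystallographic] [P.IsReduced]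
  {d : P.Base → N} (hd : RootCh.IsCCS d)

lemma eq_smul_coroot (b : P.Base) (j : b.support) {y : N}
    (h : ∀ k : b.support, k ≠ j → P.toLinearMap (RootCh.fundWeight b k) y = 0) :
    y = P.toLinearMap (RootCh.fundWeight b j) y • P.coroot j := by
  have e : ∀ k : b.support, P.toLinearMap (RootCh.fundWeight b k) y = b.toCoweightBasis.repr y k := by
    intro k
    rw [RootCh.fundWeight, LinearMap.apply_symm_toPerfPair_self, Basis.coord_apply]
  conv_lhs => rw [← b.toCoweightBasis.sum_repr y]
  rw [Finset.sum_eq_single j]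
  · rw [RootPairing.Base.toCoweightBasis_apply, e]
  · intro k _ hk
    rw [← e, h k hk, zero_smul]
  · simp

lemma baseCorners_inter {b b' : P.Base} {j : ι} (hj : j ∈ b.support)
    (hb' : ∀ i, b'.IsPos i ↔ b.IsPos (P.reflectionPerm j i)) :
    RootCh.baseCorners b ∩ RootCh.baseCorners b' =
      RootCh.fundWeight b '' {k : b.support | (k : ι) ≠ j} := by
  ext w
  constructor
  · rintro ⟨h1, h2⟩
    obtain ⟨k, rfl⟩ := baseCorners_eq b ▸ h1
    refine ⟨k, fun e => ?_, rfl⟩
    have := coroot'_nonneg b' h2.2 ((hb' (P.reflectionPerm j j)).mpr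
      (by rw [P.reflectionPerm_self]; exact RootPairing.Base.isPos_of_mem_support hj))
    rw [coroot'_neg, ← e, RootCh.coroot'_fundWeight_self] at this
    linarith
  · rintro ⟨k, hk, rfl⟩
    refine ⟨⟨⟨b, k, rfl⟩, fundWeight_mem_closedChamber b k⟩, ⟨b, k, rfl⟩, ?_⟩
    rw [mem_closedChamber_iff]
    intro i hi
    rcases (isPos_perm_iff b hj i).mp ((hb' i).mp hi) with rfl | ⟨h, -⟩
    · rw [coroot'_neg, coroot'_fundWeight b k j hj, if_neg (Ne.symm hk)]
      simp
    · exact coroot'_nonneg b (fundWeight_mem_closedChamber b k) h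

include hd in
/-- On the closed chamber of `b` the value at `d b` is the least among all chambers. -/
theorem le_d {b : P.Base} {ξ : M} (hξ : ξ ∈ RootCh.closedChamber b) :
    ∀ b' : P.Base, P.toLinearMap ξ (d b) ≤ P.toLinearMap ξ (d b') := by
  have := Fintype.ofFinite ι
  suffices ∀ (n : ℕ) (b' : P.Base),
      (Finset.univ.filter fun i => b'.IsPos i ∧ ¬ b.IsPos i).card = n →
      P.toLinearMap ξ (d b) ≤ P.toLinearMap ξ (d b') from fun b' => this _ b' rfl
  intro n
  induction n using Nat.strongRecOn with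
  | ind n ih =>
    intro b' hn
    by_cases hall : ∀ j ∈ b'.support, b.IsPos j
    · rw [base_eq_of_pos_subset (b := b') (b' := b) fun i hi =>
        hi.induction_on_add (p := b.IsPos) hall (fun a j k e ha hj => ha.add (hall j hj) e)]
    · push Not at hall
      obtain ⟨j, hj, hjb⟩ := hall
      obtain ⟨b'', hb''⟩ := exists_refl b' hj
      have hjp := RootPairing.Base.isPos_of_mem_support hj
      have hjneg : b.IsPos (P.reflectionPerm j j) := (isPos_iff_not_neg b j).mpr hjb
      have hlt : (Finset.univ.filter fun i => b''.IsPos i ∧ ¬ b.IsPos i).card < n := by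
        rw [← hn]
        refine Finset.card_lt_card ?_
        rw [Finset.ssubset_iff_of_subset]
        · refine ⟨j, by simp [hjp, hjb], ?_⟩
          simp only [Finset.mem_filter, Finset.mem_univ, true_and, not_and]
          intro h
          rcases (isPos_perm_iff b' hj j).mp ((hb'' j).mp h) with e | ⟨-, e⟩
          · exact absurd (e ▸ hjneg) hjb
          · exact absurd rfl e
        · intro i
          simp only [Finset.mem_filter, Finset.mem_univ, true_and]
          rintro ⟨h1, h2⟩
          rcases (isPos_perm_iff b' hj i).mp ((hb'' i).mp h1) with rfl | ⟨h, -⟩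
          · exact absurd hjneg h2
          · exact ⟨h, h2⟩
      refine le_trans (ih _ hlt b'' rfl) ?_
      have hinter := baseCorners_inter hj hb''
      have hcard : (RootCh.baseCorners b'' ∩ RootCh.baseCorners b').ncard + 1 = b''.support.card := by
        rw [Set.inter_comm, hinter, Set.ncard_image_of_injective _ (fundWeight_injective b')]
        have e1 : b''.support.card = b'.support.card := by
          rw [← Fintype.card_coe, ← Fintype.card_coe, ← Module.finrank_eq_card_basis b''.toWeightBasis,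
            ← Module.finrank_eq_card_basis b'.toWeightBasis]
        have e2 : {k : b'.support | (k : ι) ≠ j} = {(⟨j, hj⟩ : b'.support)}ᶜ := by
          ext k; simp [Subtype.ext_iff]
        rw [e1, e2, Set.ncard_compl, Set.ncard_singleton, Nat.card_eq_fintype_card, Fintype.card_coe]
        have : 0 < b'.support.card := Finset.card_pos.mpr ⟨j, hj⟩
        omega
      have hwall := hd.wall_le b'' b' (P.reflectionPerm j j) hcard fun i => by
        rw [hb'', isPos_perm_iff b' hj]
        constructor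
        · rintro ⟨h | ⟨h, -⟩, h'⟩
          · exact h
          · exact absurd h h'
        · rintro rfl
          exact ⟨Or.inl rfl, fun h => (isPos_iff_not_neg b' j).mp h hjp⟩
      have hy : ∀ k : b'.support, k ≠ ⟨j, hj⟩ →
          P.toLinearMap (RootCh.fundWeight b' k) (d b' - d b'') = 0 := by
        intro k hk
        have : RootCh.fundWeight b' k ∈ RootCh.baseCorners b' ∩ RootCh.baseCorners b'' := by
          rw [hinter]
          exact ⟨k, fun e => hk (Subtype.ext e), rfl⟩
        rw [map_sub, hd.corner_eq b' b'' _ this.1 this.2, sub_self]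
      have e := eq_smul_coroot b' ⟨j, hj⟩ hy
      set t := P.toLinearMap (RootCh.fundWeight b' ⟨j, hj⟩) (d b' - d b'')
      have h1 : P.root' (P.reflectionPerm j j) (d b' - d b'') = -(2 * t) := by
        rw [root'_neg, e, map_smul, smul_eq_mul, RootPairing.root'_coroot_eq_pairing,
          RootPairing.pairing_same]
        ring
      rw [map_sub] at h1
      have h2 : P.toLinearMap ξ (d b' - d b'') = t * P.coroot' j ξ := by
        rw [e, map_smul]; rfl
      rw [map_sub] at h2
      nlinarith [coroot'_nonpos b hξ hjb]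

include hd in
lemma d_eq {b b' : P.Base} {ξ : M} (h : ξ ∈ RootCh.closedChamber b)
    (h' : ξ ∈ RootCh.closedChamber b') : P.toLinearMap ξ (d b) = P.toLinearMap ξ (d b') :=
  le_antisymm (le_d hd h b') (le_d hd h' b)

include hd in
lemma le_of_mem_solid {b : P.Base} {ξ : M} (h : ξ ∈ RootCh.closedChamber b) {y : N}
    (hy : y ∈ RootCh.solid d) : P.toLinearMap ξ (d b) ≤ P.toLinearMap ξ y :=
  le_of_mem_convexHull (f := P.toLinearMap ξ) (fun p hp => by
    obtain ⟨b', rfl⟩ := hp
    exact le_d hd h b') hy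

lemma dualSolid_subset (d : P.Base → N) (F : RootCh.Facet P) :
    RootCh.dualSolid d F ⊆ RootCh.solid d :=
  convexHull_mono (Set.image_subset_range _ _)

include hd in
lemma eq_of_mem_dualSolid {F : RootCh.Facet P} {b : P.Base} (hb : b ∈ F.cham) {ξ : M}
    (hξ : ξ ∈ F.closure) {y : N} (hy : y ∈ RootCh.dualSolid d F) :
    P.toLinearMap ξ y = P.toLinearMap ξ (d b) :=
  eq_of_mem_convexHull (f := P.toLinearMap ξ) (fun p hp => by
    obtain ⟨b', hb', rfl⟩ := hp
    exact d_eq hd (closure_subset b' hb' hξ) (closure_subset b hb hξ)) hy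

include hd in
theorem dualSolid_eq (F : RootCh.Facet P) : RootCh.dualSolid d F =
    (⋂ m ∈ F.corners, RootCh.hyper d m) ∩ ⋂ m ∈ F.corners', RootCh.halfClosed d m := by
  apply Set.Subset.antisymm
  · intro y hy
    refine ⟨Set.mem_iInter₂.mpr fun m hm b' hb' => ?_, Set.mem_iInter₂.mpr fun m _ b' hb' =>
      le_of_mem_solid hd hb'.2 (dualSolid_subset d F hy)⟩
    obtain ⟨b, hb⟩ := exists_cham_of_le F
    rw [eq_of_mem_dualSolid hd hb hm.2 hy]
    exact d_eq hd (closure_subset b hb hm.2) hb'.2
  · rintro y ⟨h1, h2⟩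
    rw [Set.mem_iInter₂] at h1 h2
    have := Fintype.ofFinite ι
    refine mem_convexHull_of_forall_exists (Set.toFinite _ |>.image d) fun f => ?_
    obtain ⟨η, rfl⟩ : ∃ η, P.toLinearMap η = f :=
      ⟨P.toPerfPair.symm f, LinearMap.apply_symm_toPerfPair_self _ _⟩
    obtain ⟨ξ, hξ⟩ := F.exists_sgnVec_eq
    obtain ⟨ε, hε, hsg⟩ := exists_perturb P ξ η
    obtain ⟨b, hbG⟩ := exists_cham_of_le (RootCh.Facet.ofVec P (ξ + ε • η))
    have hv : ξ + ε • η ∈ RootCh.closedChamber b := hbG rfl
    have hξb : ξ ∈ RootCh.closedChamber b := fun j hj => by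
      by_contra hlt
      push Not at hlt
      have e := (hsg j).2 hlt.ne
      simp only [RootCh.sgnVec] at e
      rw [sign_neg hlt, sign_eq_neg_one_iff] at e
      exact (hv j hj).not_gt e
    have hbF : b ∈ F.cham := (mem_cham_iff b (F := F) hξ).mpr hξb
    refine ⟨d b, ⟨b, hbF, rfl⟩, ?_⟩
    have hmem : ∀ k : b.support, RootCh.fundWeight b k ∈ RootCh.baseCorners b :=
      fun k => ⟨⟨b, k, rfl⟩, fundWeight_mem_closedChamber b k⟩
    have e1 : P.toLinearMap ξ y = P.toLinearMap ξ (d b) := by
      rw [toLinearMap_eq_sum b ξ y, toLinearMap_eq_sum b ξ (d b)]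
      refine Finset.sum_congr rfl fun k _ => ?_
      by_cases hk : F.sgn k = 0
      · rw [← hξ] at hk
        rw [sign_eq_zero_iff.mp hk, zero_mul, zero_mul]
      · rw [h1 _ (corners_eq b hbF ▸ ⟨k, hk, rfl⟩) b (hmem k)]
    have e2 : P.toLinearMap (ξ + ε • η) (d b) ≤ P.toLinearMap (ξ + ε • η) y := by
      rw [toLinearMap_eq_sum b (ξ + ε • η) y, toLinearMap_eq_sum b (ξ + ε • η) (d b)]
      exact Finset.sum_le_sum fun k _ => mul_le_mul_of_nonneg_left
        (h2 _ (Set.mem_biUnion hbF (hmem k)) b (hmem k)) (hv k k.2)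
    simp only [map_add, map_smul, LinearMap.add_apply, LinearMap.smul_apply, smul_eq_mul, e1] at e2
    nlinarith

/-- The roots sum over a parabolic set of a facet. -/
def sigma (F : RootCh.Facet P) : M := ∑ i ∈ (Set.toFinite F.parab).toFinset, P.root i

omit hd in
lemma sigma_mem_carrier (F : RootCh.Facet P) : sigma F ∈ F.carrier := by
  have := Fintype.ofFinite ι
  obtain ⟨ξ, hξ⟩ := F.exists_sgnVec_eq
  obtain ⟨b, hb⟩ := exists_cham_of_le F
  have hξc := (mem_cham_iff b (F := F) hξ).mp hb
  rw [mem_carrier_iff b hb]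
  intro k
  let c := fun i => P.coroot' (k : ι) (P.root i)
  have hs : P.coroot' (k : ι) (sigma F) = ∑ i ∈ (Set.toFinite F.parab).toFinset, c i := by
    rw [sigma, map_sum]
  have hmem : ∀ i, i ∈ F.parab ↔ 0 ≤ B P (P.root i) ξ := fun i => by
    show F.sgn i ≠ -1 ↔ _
    rw [← hξ, ← coroot'_nonneg_iff]
    simp [RootCh.sgnVec, sign_eq_neg_one_iff]
  have hperm : ∀ i, B P (P.root (P.reflectionPerm k i)) ξ =
      B P (P.root i) ξ - c i * B P (P.root k) ξ := fun i => by
    rw [P.root_reflectionPerm, RootPairing.reflection_apply, map_sub, map_smul, LinearMap.sub_apply,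
      LinearMap.smul_apply, smul_eq_mul]
  have hc : ∀ i, c (P.reflectionPerm k i) = -c i := fun i => by
    simp only [c]
    rw [P.root_reflectionPerm, RootPairing.reflection_apply, map_sub, map_smul]
    simp
    ring
  let s := (Set.toFinite F.parab).toFinset
  let s₁ := s.filter fun i => P.reflectionPerm k i ∈ s
  let s₂ := s.filter fun i => P.reflectionPerm k i ∉ s
  have h1 : ∑ i ∈ s₁, c i = 0 := by
    refine Finset.sum_involution (fun i _ => P.reflectionPerm k i) (fun i _ => ?_) (fun i _ h => ?_)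
      (fun i hi => ?_) (fun i _ => P.reflectionPerm_self _ _)
    · rw [hc, add_neg_cancel]
    · intro e
      have := hc i
      rw [e] at this
      exact h (by linarith)
    · rw [Finset.mem_filter] at hi ⊢
      exact ⟨hi.2, by rw [P.reflectionPerm_self]; exact hi.1⟩
  have hk0 : 0 ≤ B P (P.root k) ξ := (coroot'_nonneg_iff P _ _).mp (hξc k k.2)
  rw [sgn_simple b hb k]
  show SignType.sign (P.coroot' (k : ι) (sigma F)) = _
  rw [hs, ← Finset.sum_filter_add_sum_filter_not s (fun i => P.reflectionPerm k i ∈ s), h1, zero_add]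
  by_cases hk : k ∈ supp b F
  · rw [if_pos hk, sign_eq_one_iff]
    have hkpos : 0 < B P (P.root k) ξ := by
      refine lt_of_le_of_ne hk0 fun e => hk ?_
      rw [← hξ]
      exact sign_eq_zero_iff.mpr ((coroot'_eq_zero_iff P _ _).mpr e.symm)
    refine Finset.sum_pos (fun i hi => ?_) ⟨k, ?_⟩
    · simp only [Finset.mem_filter, s, Set.Finite.mem_toFinset, hmem, hperm] at hi
      by_contra hle
      push Not at hle
      exact hi.2 (by nlinarith)
    · simp only [Finset.mem_filter, s, Set.Finite.mem_toFinset, hmem]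
      refine ⟨hk0, ?_⟩
      rw [root_neg, map_neg, LinearMap.neg_apply]
      linarith
  · rw [if_neg hk, sign_eq_zero_iff]
    refine Finset.sum_eq_zero fun i hi => ?_
    simp only [Finset.mem_filter, s, Set.Finite.mem_toFinset, hmem, hperm] at hi
    exfalso
    have : B P (P.root k) ξ = 0 := by
      refine (coroot'_eq_zero_iff P _ _).mp ?_
      have h0 : F.sgn k = 0 := not_not.mp hk
      rw [← hξ] at h0
      exact sign_eq_zero_iff.mp h0
    rw [this, mul_zero, sub_zero] at hi
    exact hi.2 hi.1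

omit hd in
lemma deg_eq (d : P.Base → N) (F : RootCh.Facet P) (b : P.Base) :
    F.deg d b = P.toLinearMap (sigma F) (d b) := by
  simp [RootCh.Facet.deg, sigma, RootPairing.root', map_sum]

lemma sigma_mem_closedChamber {F : RootCh.Facet P} {b : P.Base} (hb : b ∈ F.cham) :
    sigma F ∈ RootCh.closedChamber b := hb (sigma_mem_carrier F)

include hd in
lemma deg_eq_deg {F : RootCh.Facet P} {b b' : P.Base} (hb : b ∈ F.cham) (hb' : b' ∈ F.cham) :
    F.deg d b = F.deg d b' := by
  rw [deg_eq, deg_eq]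
  exact d_eq hd (sigma_mem_closedChamber hb) (sigma_mem_closedChamber hb')

include hd in
theorem corners_le_zero_iff :
    (∀ (b : P.Base), ∀ m ∈ RootCh.baseCorners b, P.toLinearMap m (d b) ≤ 0) ↔
      RootCh.IsSemistable d := by
  constructor
  · intro h
    refine mem_convexHull_of_forall_exists (Set.finite_range d) fun f => ?_
    obtain ⟨η, rfl⟩ : ∃ η, P.toLinearMap η = f :=
      ⟨P.toPerfPair.symm f, LinearMap.apply_symm_toPerfPair_self _ _⟩
    obtain ⟨b, hb⟩ := exists_cham_of_le (RootCh.Facet.ofVec P η)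
    refine ⟨d b, ⟨b, rfl⟩, ?_⟩
    rw [map_zero, toLinearMap_eq_sum b η (d b)]
    exact Finset.sum_nonpos fun k _ => mul_nonpos_of_nonneg_of_nonpos (hb rfl k k.2)
      (h b _ (baseCorners_eq b ▸ ⟨k, rfl⟩))
  · intro h b m hm
    simpa using le_of_mem_solid hd hm.2 h

include hd in
lemma deg_nonpos (h : RootCh.IsSemistable d) {F : RootCh.Facet P} {b : P.Base} (hb : b ∈ F.cham) :
    F.deg d b ≤ 0 := by
  rw [deg_eq]
  simpa using le_of_mem_solid hd (sigma_mem_closedChamber hb) h

omit hd in
lemma dim_ofSupp_singleton (b : P.Base) (k : b.support) : (ofSupp b {k}).dim = 1 := by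
  rw [RootCh.Facet.dim, span_carrier, corners_ofSupp, Set.image_singleton,
    finrank_span_singleton (fundWeight_ne_zero b k)]

include hd in
theorem dim_one_iff :
    (∀ (F : RootCh.Facet P) (b : P.Base), F.dim = 1 → b ∈ F.cham → F.deg d b ≤ 0) ↔
      RootCh.IsSemistable d := by
  refine ⟨fun h => (corners_le_zero_iff hd).mp fun b m hm => ?_, fun h F b _ hb => deg_nonpos hd h hb⟩
  obtain ⟨k, rfl⟩ := baseCorners_eq b ▸ hm
  have hb := ofSupp_cham b {k}
  have h1 := h _ b (dim_ofSupp_singleton b k) hb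
  rw [deg_eq, toLinearMap_eq_sum b, Finset.sum_eq_single k] at h1
  · have hpos : 0 < P.coroot' k (sigma (ofSupp b {k})) := by
      have := (mem_carrier_iff b hb _).mp (sigma_mem_carrier _) k
      rw [sgn_simple b hb, if_pos (by rw [supp_ofSupp]; rfl)] at this
      exact sign_eq_one_iff.mp this
    exact nonpos_of_mul_nonpos_right h1 hpos |>.trans le_rfl
  · intro l _ hl
    have := (mem_carrier_iff b hb _).mp (sigma_mem_carrier (ofSupp b {k})) l
    rw [sgn_simple b hb, if_neg (by rw [supp_ofSupp]; exact hl)] at this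
    rw [sign_eq_zero_iff.mp this, zero_mul]
  · simp

omit hd in
lemma sigmaPsi_mem (F : RootCh.Facet P) {m : M} (hm : m ∈ F.corners) :
    (∑ i ∈ (Set.toFinite (F.Psi m)).toFinset, P.root i) ∈ Submodule.span R F.corners := by
  obtain ⟨b, hb⟩ := exists_cham_of_le F
  rw [mem_span_corners_iff b hb]
  intro j hj
  let s := (Set.toFinite (F.Psi m)).toFinset
  let c := fun i => P.coroot' (j : ι) (P.root i)
  have hc : ∀ i, c (P.reflectionPerm j i) = -c i := fun i => by
    simp only [c]
    rw [P.root_reflectionPerm, RootPairing.reflection_apply, map_sub, map_smul]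
    simp
    ring
  have hinv : ∀ i, i ∈ F.Psi m → P.reflectionPerm j i ∈ F.Psi m := by
    have hx : ∀ w ∈ F.corners, ∀ x, RootCh.Corr P w x → ∀ i,
        P.root' (P.reflectionPerm j i) x = P.root' i x := by
      intro w hw x hx i
      rw [corners_eq b hb] at hw
      obtain ⟨k, hk, rfl⟩ := hw
      rw [(corr_iff b k x).mp hx]
      simp only [RootPairing.root', P.root_reflectionPerm, RootPairing.reflection_apply, map_sub,
        map_smul, LinearMap.sub_apply, LinearMap.smul_apply]
      have h0 := root'_fundCoweight b k j j.2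
      rw [if_neg (fun e => hk (by rw [← e]; exact hj))] at h0
      simp [RootPairing.root'] at h0
      simp [h0]
    rintro i ⟨h1, h2⟩
    exact ⟨fun x hm' => by rw [hx m hm x hm']; exact h1 x hm',
      fun w hw hne x hw' => by rw [hx w hw x hw']; exact h2 w hw hne x hw'⟩
  rw [map_sum]
  refine Finset.sum_involution (fun i _ => P.reflectionPerm j i) (fun i _ => ?_) (fun i _ h => ?_)
    (fun i hi => ?_) (fun i _ => P.reflectionPerm_self _ _)
  · show c i + c (P.reflectionPerm j i) = 0
    rw [hc, add_neg_cancel]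
  · intro e
    have := hc i
    rw [e] at this
    exact h (show c i = 0 by linarith)
  · simp only [Set.Finite.mem_toFinset] at hi ⊢
    exact hinv i hi

omit hd in
lemma numInv_eq (d : P.Base → N) (F : RootCh.Facet P) (m : M) (b : P.Base) :
    F.numInv d m b =
      P.toLinearMap (∑ i ∈ (Set.toFinite (F.Psi m)).toFinset, P.root i) (d b) := by
  simp [RootCh.Facet.numInv, RootPairing.root', map_sum]

include hd in
lemma numInv_eq_numInv {F : RootCh.Facet P} {m : M} (hm : m ∈ F.corners) {b b' : P.Base}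
    (hb : b ∈ F.cham) (hb' : b' ∈ F.cham) : F.numInv d m b = F.numInv d m b' := by
  rw [numInv_eq, numInv_eq]
  refine LinearMap.eqOn_span (f := P.toLinearMap.flip (d b)) (g := P.toLinearMap.flip (d b'))
    (fun w hw => ?_) (sigmaPsi_mem F hm)
  exact d_eq hd (closure_subset b hb hw.2) (closure_subset b' hb' hw.2)

omit hd in
lemma mem_span_dualCarrier_iff {F : RootCh.Facet P} {b : P.Base} (hb : b ∈ F.cham) (y : N) :
    y ∈ Submodule.span R F.dualCarrier ↔ ∀ k : b.support, F.sgn k = 0 → P.root' k y = 0 := by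
  obtain ⟨x, rfl⟩ := pol_surjective P y
  simp only [root'_pol_zero]
  rw [dualCarrier_eq, ← Submodule.map_span, Submodule.mem_map]
  simp only [(pol_injective P).eq_iff, exists_eq_right, span_carrier, mem_span_corners_iff b hb]

include hd in
/-- Evaluation of a numerical invariant at a point of the dual solid lying in the span of the dual
facet. -/
lemma numInv_eq_mul {F : RootCh.Facet P} {b b' : P.Base} (hb : b ∈ F.cham) (hb' : b' ∈ F.cham)
    {k : b.support} (hk : k ∈ supp b F) {y : N} (hy : y ∈ RootCh.dualSolid d F)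
    (hys : y ∈ Submodule.span R F.dualCarrier) :
    F.numInv d (RootCh.fundWeight b k) b' =
      ((Set.toFinite (F.Psi (RootCh.fundWeight b k))).toFinset.card : R) * P.root' k y ∧
    (k : ι) ∈ F.Psi (RootCh.fundWeight b k) := by
  have hm : RootCh.fundWeight b k ∈ F.corners := corners_eq b hb ▸ ⟨k, hk, rfl⟩
  have e1 : F.numInv d (RootCh.fundWeight b k) b' = P.toLinearMap
      (∑ i ∈ (Set.toFinite (F.Psi (RootCh.fundWeight b k))).toFinset, P.root i) y := by
    rw [numInv_eq]
    refine LinearMap.eqOn_span (f := P.toLinearMap.flip (d b')) (g := P.toLinearMap.flip y)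
      (fun w hw => ?_) (sigmaPsi_mem F hm)
    exact (eq_of_mem_dualSolid hd hb' hw.2 hy).symm
  refine ⟨?_, ⟨fun x hx => ?_, fun w hw hne x hx => ?_⟩⟩
  · rw [e1, map_sum, LinearMap.coe_sum, Finset.sum_apply, ← nsmul_eq_mul, ← Finset.sum_const]
    refine Finset.sum_congr rfl fun i hi => ?_
    rw [Set.Finite.mem_toFinset] at hi
    show P.root' i y = P.root' k y
    conv_lhs => rw [coweight_repr b y, map_sum]
    rw [Finset.sum_eq_single k]
    · rw [map_smul, hi.1 _ ⟨b, k, rfl, rfl⟩, smul_eq_mul, mul_one]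
    · intro l _ hl
      by_cases hl' : F.sgn l = 0
      · rw [map_smul, (mem_span_dualCarrier_iff hb y).mp hys l hl', zero_smul]
      · rw [map_smul, hi.2 _ (corners_eq b hb ▸ ⟨l, hl', rfl⟩) (fun e => hl (fundWeight_injective b e))
          _ ⟨b, l, rfl, rfl⟩, smul_zero]
    · simp
  · rw [(corr_iff b k x).mp hx, RootCh.root'_fundCoweight_self]
  · rw [corners_eq b hb] at hw
    obtain ⟨l, -, rfl⟩ := hw
    rw [(corr_iff b l x).mp hx, RootCh.root'_fundCoweight_of_ne b l k fun e => hne (by rw [e])]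

omit hd in
lemma mem_dualCarrier_iff {F : RootCh.Facet P} {b : P.Base} (hb : b ∈ F.cham) {y : N}
    (hys : y ∈ Submodule.span R F.dualCarrier) :
    y ∈ F.dualCarrier ↔ ∀ k ∈ supp b F, 0 < P.root' k y := by
  obtain ⟨x, rfl⟩ := pol_surjective P y
  rw [dualCarrier_eq, (pol_injective P).mem_set_image, mem_carrier_iff b hb]
  have h0 := (mem_span_dualCarrier_iff hb (pol P x)).mp hys
  simp only [root'_pol_zero] at h0
  simp only [root'_pol_pos]
  refine ⟨fun h k hk => ?_, fun h k => ?_⟩
  · have := h k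
    rw [sgn_simple b hb, if_pos hk] at this
    exact sign_eq_one_iff.mp this
  · rw [sgn_simple b hb]
    split
    · rename_i hk; exact sign_pos (h k hk)
    · rename_i hk; exact sign_eq_zero_iff.mpr (h0 k (not_not.mp hk))

include hd in
theorem special_iff (F : RootCh.Facet P) :
    ((∀ m ∈ F.corners, ∀ b ∈ F.cham, 0 < F.numInv d m b) ∧
      (RootCh.dualSolid d F ∩ (Submodule.span R F.dualCarrier : Set N)).Nonempty) ↔
      RootCh.IsSpecial d F := by
  obtain ⟨b, hb⟩ := exists_cham_of_le F
  constructor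
  · rintro ⟨hn, y, hy, hys⟩
    refine ⟨y, (mem_dualCarrier_iff hb hys).mpr fun k hk => ?_, hy⟩
    have hm : RootCh.fundWeight b k ∈ F.corners := corners_eq b hb ▸ ⟨k, hk, rfl⟩
    have h1 := hn _ hm b hb
    rw [(numInv_eq_mul hd hb hb hk hy hys).1] at h1
    exact pos_of_mul_pos_right h1 (Nat.cast_nonneg _)
  · rintro ⟨y, hy1, hy2⟩
    have hys : y ∈ Submodule.span R F.dualCarrier := Submodule.subset_span hy1
    refine ⟨fun m hm b' hb' => ?_, y, hy2, hys⟩
    rw [corners_eq b hb] at hm
    obtain ⟨k, hk, rfl⟩ := hm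
    obtain ⟨e, hmem⟩ := numInv_eq_mul hd hb hb' hk hy2 hys
    rw [e]
    exact mul_pos (Nat.cast_pos.mpr (Finset.card_pos.mpr ⟨k, by simpa using hmem⟩))
      ((mem_dualCarrier_iff hb hys).mp hy1 k hk)

omit hd in
lemma eq_of_pairing {F : RootCh.Facet P} {y y' : N} (hy : y ∈ Submodule.span R F.dualCarrier)
    (hy' : y' ∈ Submodule.span R F.dualCarrier)
    (h : ∀ m ∈ F.corners, P.toLinearMap m y = P.toLinearMap m y') : y = y' := by
  rw [← sub_eq_zero]
  obtain ⟨x, hx⟩ := pol_surjective P (y - y')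
  have hxs : x ∈ Submodule.span R F.corners := by
    have := (Submodule.span R F.dualCarrier).sub_mem hy hy'
    rw [← hx, dualCarrier_eq, ← Submodule.map_span, Submodule.mem_map] at this
    obtain ⟨z, hz, e⟩ := this
    rw [← pol_injective P e, ← span_carrier]
    exact hz
  have : P.toLinearMap x (y - y') = 0 := by
    rw [map_sub, sub_eq_zero]
    exact LinearMap.eqOn_span (f := P.toLinearMap.flip y) (g := P.toLinearMap.flip y') h hxs
  rw [← hx, toLinearMap_pol] at this
  rw [← hx, B_self_eq_zero P this, map_zero]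

include hd in
theorem special_point {F : RootCh.Facet P} (hF : RootCh.IsSpecial d F) :
    ∃ y₀ : N, RootCh.yLocus d F = {y₀} ∧ F.dualCarrier ∩ RootCh.dualSolid d F = {y₀} := by
  obtain ⟨y, hy1, hy2⟩ := hF
  have hh : ∀ z ∈ RootCh.dualSolid d F, z ∈ ⋂ w ∈ F.corners, RootCh.hyper d w := fun z hz => by
    rw [dualSolid_eq hd] at hz; exact hz.1
  have key : ∀ z ∈ RootCh.yLocus d F, z = y := fun z hz => by
    refine eq_of_pairing hz.2 (Submodule.subset_span hy1) fun m hm => ?_
    obtain ⟨b, hb⟩ := exists_cham_of_le F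
    have hmb : m ∈ RootCh.baseCorners b := ⟨hm.1, closure_subset b hb hm.2⟩
    rw [Set.mem_iInter₂.mp hz.1 m hm b hmb, Set.mem_iInter₂.mp (hh y hy2) m hm b hmb]
  refine ⟨y, Set.eq_singleton_iff_unique_mem.mpr ⟨⟨hh y hy2, Submodule.subset_span hy1⟩, key⟩,
    Set.eq_singleton_iff_unique_mem.mpr ⟨⟨hy1, hy2⟩, fun z hz => key z ⟨hh z hz.2, Submodule.subset_span hz.1⟩⟩⟩

omit hd in
lemma bilin_coroot (Bf : LinearMap.BilinForm R N)
    (hBi : ∀ (i : ι) (y z : N), Bf (P.coreflection i y) (P.coreflection i z) = Bf y z) (i : ι) (y : N) :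
    2 * Bf y (P.coroot i) = P.root' i y * Bf (P.coroot i) (P.coroot i) := by
  have := hBi i y (P.coroot i)
  rw [RootPairing.coreflection_apply_self, RootPairing.coreflection_apply] at this
  simp only [map_sub, map_smul, map_neg, LinearMap.sub_apply, LinearMap.smul_apply, smul_eq_mul] at this
  linarith

include hd in
/-- The pairing against the invariant form is minimised at points of the dual solid of the facet. -/
lemma exists_carrier_vec (Bf : LinearMap.BilinForm R N) (hBp : ∀ y : N, y ≠ 0 → 0 < Bf y y)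
    (hBi : ∀ (i : ι) (y z : N), Bf (P.coreflection i y) (P.coreflection i z) = Bf y z)
    {F : RootCh.Facet P} {y₀ : N} (hy₀ : y₀ ∈ F.dualCarrier) :
    ∃ η ∈ F.carrier, P.toLinearMap η = Bf y₀ := by
  refine ⟨P.toPerfPair.symm (Bf y₀), ?_, LinearMap.apply_symm_toPerfPair_self _ _⟩
  show RootCh.sgnVec P _ = F.sgn
  rw [← (show RootCh.cosgnVec P y₀ = F.sgn from hy₀)]
  funext i
  have hne : P.coroot i ≠ 0 := P.flip.ne_zero i
  have e : P.coroot' i (P.toPerfPair.symm (Bf y₀)) = Bf y₀ (P.coroot i) :=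
    LinearMap.congr_fun (LinearMap.apply_symm_toPerfPair_self P.toLinearMap (Bf y₀)) _
  have e2 : P.coroot' i (P.toPerfPair.symm (Bf y₀)) =
      (Bf (P.coroot i) (P.coroot i) / 2) * P.root' i y₀ := by
    rw [e]; linarith [bilin_coroot Bf hBi i y₀]
  simp only [RootCh.sgnVec, RootCh.cosgnVec]
  rw [e2, sign_mul, sign_pos (div_pos (hBp _ hne) two_pos), one_mul]

include hd in
theorem special_closest (Bf : LinearMap.BilinForm R N) (hBs : ∀ y z : N, Bf y z = Bf z y)
    (hBp : ∀ y : N, y ≠ 0 → 0 < Bf y y)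
    (hBi : ∀ (i : ι) (y z : N), Bf (P.coreflection i y) (P.coreflection i z) = Bf y z)
    {F : RootCh.Facet P} {y₀ : N} (h1 : y₀ ∈ F.dualCarrier) (h2 : y₀ ∈ RootCh.dualSolid d F)
    {y : N} (hy : y ∈ RootCh.solid d) (hne : y ≠ y₀) : Bf y₀ y₀ < Bf y y := by
  obtain ⟨η, hη, e⟩ := exists_carrier_vec hd Bf hBp hBi h1
  obtain ⟨b, hb⟩ := exists_cham_of_le F
  have := le_of_mem_solid hd (hb hη) hy
  rw [← eq_of_mem_dualSolid hd hb (carrier_subset_closure F hη) h2, e] at this
  have h3 := hBp (y - y₀) (sub_ne_zero.mpr hne)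
  simp only [map_sub, LinearMap.sub_apply, hBs y y₀] at h3
  linarith

include hd in
theorem special_of_min (Bf : LinearMap.BilinForm R N) (hBs : ∀ y z : N, Bf y z = Bf z y)
    (hBp : ∀ y : N, y ≠ 0 → 0 < Bf y y)
    (hBi : ∀ (i : ι) (y z : N), Bf (P.coreflection i y) (P.coreflection i z) = Bf y z)
    {y₀ : N} (hy₀ : y₀ ∈ RootCh.solid d) (hmin : ∀ y ∈ RootCh.solid d, Bf y₀ y₀ ≤ Bf y y)
    {F : RootCh.Facet P} (hF : y₀ ∈ F.dualCarrier) :
    y₀ ∈ RootCh.dualSolid d F := by
  obtain ⟨η, hη, e⟩ := exists_carrier_vec hd Bf hBp hBi hF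
  obtain ⟨b, hb⟩ := exists_cham_of_le F
  have h1 : P.toLinearMap η y₀ ≤ P.toLinearMap η (d b) := by
    rw [e]
    exact le_bilin_of_min Bf hBs (convex_convexHull R _) hy₀ hmin (subset_convexHull R _ ⟨b, rfl⟩)
  have hge : ∀ k : b.support,
      P.toLinearMap (RootCh.fundWeight b k) (d b) ≤ P.toLinearMap (RootCh.fundWeight b k) y₀ :=
    fun k => le_of_mem_solid hd (fundWeight_mem_closedChamber b k) hy₀
  rw [dualSolid_eq hd]
  refine ⟨Set.mem_iInter₂.mpr fun m hm b' hb' => ?_,
    Set.mem_iInter₂.mpr fun m _ b' hb' => le_of_mem_solid hd hb'.2 hy₀⟩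
  rw [← d_eq hd (closure_subset b hb hm.2) hb'.2]
  obtain ⟨k, hk, rfl⟩ := corners_eq b hb ▸ hm
  have hc : ∀ l : b.support, 0 ≤ P.coroot' l η := fun l => hb hη l l.2
  have hle : ∀ l : b.support, P.coroot' l η * P.toLinearMap (RootCh.fundWeight b l) (d b) ≤
      P.coroot' l η * P.toLinearMap (RootCh.fundWeight b l) y₀ :=
    fun l => mul_le_mul_of_nonneg_left (hge l) (hc l)
  rw [toLinearMap_eq_sum b η y₀, toLinearMap_eq_sum b η (d b)] at h1
  have heq := (Finset.sum_eq_sum_iff_of_le fun l _ => hle l).mp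
    (le_antisymm (Finset.sum_le_sum fun l _ => hle l) h1) k (Finset.mem_univ _)
  have hkpos : P.coroot' k η ≠ 0 := by
    intro e0
    apply hk
    rw [← congrFun hη k]
    exact sign_eq_zero_iff.mpr e0
  exact (mul_left_cancel₀ hkpos heq).symm

include hd in
theorem existsUnique_special : ∃! F : RootCh.Facet P, RootCh.IsSpecial d F := by
  have := Fintype.ofFinite ι
  have := Fintype.ofFinite P.Base
  have := nonempty_base' (P := P)
  let Bf := P.CorootForm
  have hBs : ∀ y z : N, Bf y z = Bf z y := fun y z => by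
    simp only [Bf, RootPairing.corootForm_apply_apply]
    exact Finset.sum_congr rfl fun i _ => mul_comm _ _
  have hBp : ∀ y : N, y ≠ 0 → 0 < Bf y y := fun y hy => by
    simp only [Bf, RootPairing.corootForm_apply_apply]
    obtain ⟨b⟩ := nonempty_base' (P := P)
    obtain ⟨k, hk, hk0⟩ : ∃ k ∈ b.support, P.root' k y ≠ 0 := by
      by_contra hc
      push Not at hc
      exact hy (coweight_eq_zero_of_simple b hc)
    exact Finset.sum_pos' (fun i _ => mul_self_nonneg _) ⟨k, Finset.mem_univ _, mul_self_pos.mpr hk0⟩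
  have hBi : ∀ (i : ι) (y z : N), Bf (P.coreflection i y) (P.coreflection i z) = Bf y z :=
    fun i y z => P.flip.rootForm_reflection_reflection_apply i y z
  obtain ⟨y₀, hy₀, hmin⟩ := exists_min Bf hBs hBp (Finset.univ.image d)
    (Finset.univ_nonempty.image d)
  rw [Finset.coe_image, Finset.coe_univ, Set.image_univ] at hy₀ hmin
  obtain ⟨x, rfl⟩ := pol_surjective P y₀
  have hdc : pol P x ∈ (RootCh.Facet.ofVec P x).dualCarrier := cosgnVec_pol P x
  refine ⟨RootCh.Facet.ofVec P x, ⟨_, hdc, special_of_min hd Bf hBs hBp hBi hy₀ hmin hdc⟩, ?_⟩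
  rintro G ⟨y, hy1, hy2⟩
  have e : y = pol P x := by
    by_contra hne
    exact (special_closest hd Bf hBs hBp hBi hy1 hy2 hy₀ (Ne.symm hne)).not_ge
      (hmin y (dualSolid_subset d G hy2))
  refine RootCh.Facet.ext ?_
  rw [← (show RootCh.cosgnVec P y = G.sgn from hy1), e, cosgnVec_pol]
  rfl

include hd in
theorem special_max {F : RootCh.Facet P} {b : P.Base} (hb : b ∈ F.cham) (hF : RootCh.IsSpecial d F) :
    (∀ (G : RootCh.Facet P) (c : P.Base), c ∈ G.cham → G.deg d c ≤ F.deg d b) ∧
      ∀ (G : RootCh.Facet P) (c : P.Base), c ∈ G.cham → G.deg d c = F.deg d b → G ≤ F := by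
  have := Fintype.ofFinite ι
  obtain ⟨y, hy1, hy2⟩ := hF
  have hsgn : ∀ i, SignType.sign (P.root' i y) = F.sgn i := congrFun hy1
  let pr : Finset ι → R := fun s => ∑ i ∈ s, P.root' i y
  have hG : ∀ (G : RootCh.Facet P) (c : P.Base), c ∈ G.cham → G.deg d c ≤
      pr (Set.toFinite G.parab).toFinset := fun G c hc => by
    rw [deg_eq]
    refine le_trans (le_of_mem_solid hd (sigma_mem_closedChamber hc) (dualSolid_subset d F hy2)) ?_
    simp [pr, sigma, RootPairing.root', map_sum]
  have hFd : F.deg d b = pr (Set.toFinite F.parab).toFinset := by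
    rw [deg_eq, ← eq_of_mem_dualSolid hd hb (carrier_subset_closure F (sigma_mem_carrier F)) hy2]
    simp [pr, sigma, RootPairing.root', map_sum]
  have hsplit : ∀ G : RootCh.Facet P, pr (Set.toFinite G.parab).toFinset =
      ∑ i, if i ∈ G.parab then P.root' i y else 0 := fun G => by
    rw [← Finset.sum_filter]
    exact Finset.sum_congr (by ext; simp) fun _ _ => rfl
  have hle : ∀ (G : RootCh.Facet P) i, (if i ∈ G.parab then P.root' i y else 0) ≤
      (if i ∈ F.parab then P.root' i y else 0) := fun G i => by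
    by_cases hi : F.sgn i = -1
    · have hlt : P.root' i y < 0 := sign_eq_neg_one_iff.mp ((hsgn i).trans hi)
      rw [if_neg (show ¬ i ∈ F.parab from fun h => h hi)]
      split <;> linarith
    · rw [if_pos (show i ∈ F.parab from hi)]
      have : 0 ≤ P.root' i y := by
        rw [← sign_nonneg_iff, hsgn]
        revert hi; generalize F.sgn i = s; revert s; decide
      split <;> linarith
  refine ⟨fun G c hc => ?_, fun G c hc heq i => ?_⟩
  · refine le_trans (hG G c hc) ?_
    rw [hFd, hsplit, hsplit]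
    exact Finset.sum_le_sum fun i _ => hle G i
  · have h2 : ∑ i, (if i ∈ F.parab then P.root' i y else 0) ≤
        ∑ i, (if i ∈ G.parab then P.root' i y else 0) := by
      rw [← hsplit, ← hsplit, ← hFd, ← heq]; exact hG G c hc
    have h3 := fun i => (Finset.sum_eq_sum_iff_of_le fun i _ => hle G i).mp
      (le_antisymm (Finset.sum_le_sum fun i _ => hle G i) h2) i (Finset.mem_univ _)
    have hA : ∀ i, F.sgn i = 1 → G.sgn i ≠ -1 ∧ G.sgn i ≠ 0 := by
      intro i hi
      have hpos : 0 < P.root' i y := sign_eq_one_iff.mp ((hsgn i).trans hi)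
      have a := h3 i
      have a' := h3 (P.reflectionPerm i i)
      rw [if_pos (show i ∈ F.parab by show F.sgn i ≠ -1; rw [hi]; decide)] at a
      rw [if_neg (show ¬ P.reflectionPerm i i ∈ F.parab by
        show ¬ F.sgn _ ≠ -1; rw [sgn_neg, hi]; decide), root'_neg] at a'
      refine ⟨fun h => ?_, fun h => ?_⟩
      · rw [if_neg (show ¬ i ∈ G.parab from fun hh => hh h)] at a; linarith
      · rw [if_pos (show P.reflectionPerm i i ∈ G.parab by
          show G.sgn _ ≠ -1; rw [sgn_neg, h]; decide)] at a'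
        linarith
    have h4 := hA i
    have h5 := hA (P.reflectionPerm i i)
    rw [sgn_neg, sgn_neg] at h5
    revert h4 h5; generalize F.sgn i = s; generalize G.sgn i = t; revert s t; decide

include hd in
theorem special_of_max {F : RootCh.Facet P} {b : P.Base} (hb : b ∈ F.cham)
    (hmax : ∀ (G : RootCh.Facet P) (c : P.Base), c ∈ G.cham → G.deg d c ≤ F.deg d b)
    (hmaxl : ∀ (G : RootCh.Facet P) (c : P.Base), c ∈ G.cham → G.deg d c = F.deg d b → F ≤ G → G = F) :
    RootCh.IsSpecial d F := by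
  obtain ⟨G, hG, -⟩ := existsUnique_special hd
  obtain ⟨c, hc⟩ := exists_cham_of_le G
  obtain ⟨h1, h2⟩ := special_max hd hc hG
  have e : F.deg d b = G.deg d c := le_antisymm (h1 F b hb) (hmax G c hc)
  exact hmaxl G c hc e.symm (h2 F b hb e) ▸ hG

end Groth.Agent.RootCham
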